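import Mathlib
import Cfsg.Agent.Compute.Perm
import Cfsg.Agent.StemCert.Defs

/-!
# Six by six matrices over four elements, packed into natural numbers

An entry takes two bits: `1`, `2`, `3` stand for `1`, `w`, `w + 1`, where `w ^ 2 + w + 1 = 0`.
-/

set_option autoImplicit false

namespace Cfsg.Agent.U62

open Cfsg.Agent.Compute Cfsg.Agent.StemCert Matrix

/-- Multiplication of two codes. -/
noncomputable def mulQ (a b : ℕ) : ℕ := getField 2 0x9c78e400 (Nat.add (Nat.mul 4 a) b)

/-- The involutory automorphism on codes. -/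
noncomputable def cjQ (a : ℕ) : ℕ := getField 2 0xb4 a

/-- An entry of a packed matrix. -/
noncomputable def getE (A i j : ℕ) : ℕ := getField 2 A (Nat.add (Nat.mul 6 i) j)

/-- Pack a matrix. -/
noncomputable def mkC (f : ℕ → ℕ → ℕ) : ℕ := pack 2 36 fun k => f (Nat.div k 6) (Nat.mod k 6)

/-- The sum of six codes. -/
noncomputable def sum6 (f : ℕ → ℕ) : ℕ :=
  Nat.xor (f 0) (Nat.xor (f 1) (Nat.xor (f 2) (Nat.xor (f 3) (Nat.xor (f 4) (f 5)))))

/-- The product. -/
noncomputable def mulC (A B : ℕ) : ℕ := mkC fun i j => sum6 fun k => mulQ (getE A i k) (getE B k j)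

/-- The adjoint. -/
noncomputable def starC (A : ℕ) : ℕ := mkC fun i j => cjQ (getE A j i)

/-- The identity. -/
noncomputable def idC : ℕ := mkC fun i j => cond (Nat.beq i j) 1 0

/-- The exponent at a place of a packed diagonal. -/
noncomputable def dig3 (e i : ℕ) : ℕ := Nat.mod (Nat.div e (Nat.pow 3 i)) 3

/-- The diagonal matrix with the given exponents of `w`. -/
noncomputable def diagC (e : ℕ) : ℕ := mkC fun i j => cond (Nat.beq i j) (Nat.add 1 (dig3 e i)) 0

/-- The scalar matrix. -/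
noncomputable def scalC (a : ℕ) : ℕ := mkC fun i j => cond (Nat.beq i j) a 0

/-- The product along a word. -/
noncomputable def evalC (cs : List ℕ) (wd : List ℕ) : ℕ :=
  List.rec (motive := fun _ => ℕ) idC (fun s _ r => mulC (cs.getD s 0) r) wd

/-- At most one entry in each column is nonzero. -/
noncomputable def monB (A : ℕ) : Bool :=
  allBelow 6 fun j => allBelow 6 fun i => allBelow i fun i' =>
    Nat.beq (getE A i j) 0 || Nat.beq (getE A i' j) 0

/-- The value of a code. -/
def val {F : Type*} [Field F] (w : F) (a : ℕ) : F :=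
  if a = 1 then 1 else if a = 2 then w else if a = 3 then w + 1 else 0

/-- The matrix of a packed matrix. -/
noncomputable def toMat {F : Type*} [Field F] (w : F) (A : ℕ) : Matrix (Fin 6) (Fin 6) F :=
  Matrix.of fun i j => val w (getE A i j)

theorem mulQ_lt (a b : ℕ) : mulQ a b < 4 := getField_lt 2 _ _

theorem cjQ_lt (a : ℕ) : cjQ a < 4 := getField_lt 2 _ _

theorem getE_lt (A i j : ℕ) : getE A i j < 4 := getField_lt 2 _ _

theorem getE_mkC {f : ℕ → ℕ → ℕ} (hf : ∀ i j, i < 6 → j < 6 → f i j < 4) {i j : ℕ} (hi : i < 6) (hj : j < 6) :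
    getE (mkC f) i j = f i j := by
  show getField 2 (pack 2 36 fun k => f (k / 6) (k % 6)) (6 * i + j) = _
  rw [getField_pack 2 36 _ (fun k hk => hf _ _ (by omega) (by omega)) (by omega : 6 * i + j < 36)]
  congr 1 <;> omega

theorem xor_lt {a b : ℕ} (ha : a < 4) (hb : b < 4) : Nat.xor a b < 4 :=
  Nat.xor_lt_two_pow (n := 2) ha hb

variable {F : Type*} [Field F] [CharP F 2] {w : F}

theorem val_xor {a b : ℕ} (ha : a < 4) (hb : b < 4) : val w (Nat.xor a b) = val w a + val w b := by
  have h2 : (2 : F) = 0 := CharTwo.two_eq_zero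
  show val w (a ^^^ b) = _
  interval_cases a <;> interval_cases b <;> simp [val] <;> grind

theorem val_mulQ (hw : w ^ 2 + w + 1 = 0) {a b : ℕ} (ha : a < 4) (hb : b < 4) :
    val w (mulQ a b) = val w a * val w b := by
  have h2 : (2 : F) = 0 := CharTwo.two_eq_zero
  interval_cases a <;> interval_cases b <;> simp [val, mulQ, getField] <;> grind

theorem val_cjQ (hw : w ^ 2 + w + 1 = 0) {a : ℕ} (ha : a < 4) : val w (cjQ a) = val w a ^ 2 := by
  have h2 : (2 : F) = 0 := CharTwo.two_eq_zero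
  interval_cases a <;> simp [val, cjQ, getField] <;> grind

theorem val_inj (hw : w ^ 2 + w + 1 = 0) {a b : ℕ} (ha : a < 4) (hb : b < 4) (h : val w a = val w b) :
    a = b := by
  have h2 : (2 : F) = 0 := CharTwo.two_eq_zero
  have h1 : (1 : F) ≠ 0 := one_ne_zero
  interval_cases a <;> interval_cases b <;> simp [val] at h ⊢ <;> grind

theorem toMat_apply (A : ℕ) (i j : Fin 6) : toMat w A i j = val w (getE A i j) := rfl

theorem val_sum6 (f : ℕ → ℕ) (hf : ∀ k, f k < 4) : val w (sum6 f) = ∑ k : Fin 6, val w (f k) := by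
  have x4 := xor_lt (hf 4) (hf 5)
  have x3 := xor_lt (hf 3) x4
  have x2 := xor_lt (hf 2) x3
  have x1 := xor_lt (hf 1) x2
  rw [sum6, val_xor (hf 0) x1, val_xor (hf 1) x2, val_xor (hf 2) x3, val_xor (hf 3) x4, val_xor (hf 4) (hf 5),
    Fin.sum_univ_six]
  simp [add_assoc]

theorem sum6_lt (f : ℕ → ℕ) (hf : ∀ k, f k < 4) : sum6 f < 4 :=
  xor_lt (hf 0) (xor_lt (hf 1) (xor_lt (hf 2) (xor_lt (hf 3) (xor_lt (hf 4) (hf 5)))))

theorem toMat_mulC (hw : w ^ 2 + w + 1 = 0) (A B : ℕ) : toMat w (mulC A B) = toMat w A * toMat w B := by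
  ext i j
  rw [toMat_apply, mulC, getE_mkC (fun a b _ _ => sum6_lt _ fun k => mulQ_lt _ _) i.2 j.2,
    val_sum6 _ (fun k => mulQ_lt _ _), Matrix.mul_apply]
  exact Finset.sum_congr rfl fun k _ => val_mulQ hw (getE_lt _ _ _) (getE_lt _ _ _)

theorem toMat_starC (hw : w ^ 2 + w + 1 = 0) (A : ℕ) :
    toMat w (starC A) = ((toMat w A).map (· ^ 2))ᵀ := by
  ext i j
  rw [toMat_apply, starC, getE_mkC (fun a b _ _ => cjQ_lt _) i.2 j.2, val_cjQ hw (getE_lt _ _ _)]
  rfl

theorem cond_lt {a : ℕ} (ha : a < 4) (c : Bool) : cond c a 0 < 4 := by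
  cases c
  · exact Nat.succ_pos 3
  · exact ha

theorem toMat_scalC {a : ℕ} (ha : a < 4) : toMat w (scalC a) = Matrix.scalar (Fin 6) (val w a) := by
  ext i j
  rw [toMat_apply, scalC, getE_mkC (fun _ _ _ _ => cond_lt ha _) i.2 j.2, Matrix.scalar_apply, Matrix.diagonal_apply]
  by_cases h : i = j
  · subst h; simp
  · rw [if_neg h, show Nat.beq i j = false from Bool.eq_false_iff.2 fun e => h (Fin.ext (Nat.eq_of_beq_eq_true e))]
    simp [val]

theorem toMat_idC : toMat w idC = (1 : Matrix (Fin 6) (Fin 6) F) := by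
  show toMat w (scalC 1) = _
  rw [toMat_scalC (by norm_num)]
  simp [val]

theorem dig3_lt (e i : ℕ) : dig3 e i < 3 := Nat.mod_lt _ (by norm_num)

theorem toMat_diagC (e : ℕ) :
    toMat w (diagC e) = Matrix.diagonal fun i : Fin 6 => val w (1 + dig3 e i) := by
  ext i j
  rw [toMat_apply, diagC, getE_mkC (fun a _ _ _ => cond_lt (a := Nat.add 1 (dig3 e a))
      (show 1 + dig3 e a < 4 by have := dig3_lt e a; omega) _) i.2 j.2, Matrix.diagonal_apply]
  by_cases h : i = j
  · subst h; simp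
  · rw [if_neg h, show Nat.beq i j = false from Bool.eq_false_iff.2 fun e => h (Fin.ext (Nat.eq_of_beq_eq_true e))]
    simp [val]

/-- A matrix with at most one nonzero entry in each column. -/
def IsMono (M : Matrix (Fin 6) (Fin 6) F) : Prop := ∀ i i' j, M i j ≠ 0 → M i' j ≠ 0 → i = i'

theorem val_ne_zero_iff (hw : w ^ 2 + w + 1 = 0) {a : ℕ} (ha : a < 4) : val w a ≠ 0 ↔ a ≠ 0 :=
  ⟨fun h e => h (by rw [e]; simp [val]), fun h e => h (val_inj hw ha (by norm_num) (e.trans (by simp [val])))⟩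

theorem monB_iff (hw : w ^ 2 + w + 1 = 0) (A : ℕ) : monB A = true ↔ IsMono (toMat w A) := by
  simp only [monB, allBelow_eq_true, Bool.or_eq_true, Nat.beq_eq, IsMono, toMat_apply,
    val_ne_zero_iff hw (getE_lt _ _ _)]
  constructor
  · intro h i i' j h1 h2
    rcases lt_trichotomy (i : ℕ) i' with hl | he | hl
    · rcases h j j.2 i' i'.2 i hl with e | e
      · exact absurd e h2
      · exact absurd e h1
    · exact Fin.ext he
    · rcases h j j.2 i i.2 i' hl with e | e
      · exact absurd e h1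
      · exact absurd e h2
  · intro h j hj i hi i' hi'
    by_contra hn
    push Not at hn
    have := h ⟨i, hi⟩ ⟨i', hi'.trans hi⟩ ⟨j, hj⟩ hn.1 hn.2
    rw [Fin.mk.injEq] at this
    omega

theorem exists_root {F : Type*} [Field F] [Fintype F] (hF : Fintype.card F = 4) :
    CharP F 2 ∧ ∃ w : F, w ^ 2 + w + 1 = 0 := by
  have h4 : ((4 : ℕ) : F) = 0 := by rw [← hF]; exact Nat.cast_card_eq_zero F
  have h2 : (2 : F) = 0 := by
    have : (2 : F) ^ 2 = 0 := by rw [← h4]; norm_num
    exact pow_eq_zero_iff (two_ne_zero) |>.1 this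
  refine ⟨CharTwo.of_one_ne_zero_of_two_eq_zero one_ne_zero h2, ?_⟩
  classical
  obtain ⟨w, hw⟩ : ∃ w : F, w ∉ ({0, 1} : Finset F) := by
    by_contra h
    push Not at h
    have := Finset.card_le_card (s := (Finset.univ : Finset F)) (t := {0, 1}) (fun x _ => h x)
    rw [Finset.card_univ, hF] at this
    have h3 : ({0, 1} : Finset F).card ≤ 2 := Finset.card_le_two
    omega
  simp only [Finset.mem_insert, Finset.mem_singleton, not_or] at hw
  refine ⟨w, ?_⟩
  have h : (w - 1) * (w ^ 2 + w + 1) * w = 0 := by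
    have := FiniteField.pow_card w
    rw [hF] at this
    linear_combination this
  simpa [sub_eq_zero, hw.1, hw.2] using h

end Cfsg.Agent.U62
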