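import Cfsg.Agent.U62.Group

/-!
# The radical of a point stabiliser in PSU(4,3) on 112 points
-/

set_option autoImplicit false

namespace Cfsg.Agent.U62

open Cfsg.Agent.Compute Cfsg.Agent.StemCert

theorem eval_eq_of_same {a b : List ℕ} (ha : ∀ s ∈ a, s < 5) (hb : ∀ s ∈ b, s < 5) (h : samePerm a b = true) :
    evalW gG a = evalW gG b :=
  ιG_injective (Equiv.ext fun x => Fin.ext (by
    rw [wP_spec ha, wP_spec hb]
    exact Nat.eq_of_beq_eq_true (allBelow_eq_true.mp h x x.2)))

theorem repW_letters {k : ℕ} {wd : List ℕ} (h : ∀ s ∈ wd, s < k) : ∀ n, ∀ s ∈ repW wd n, s < k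
  | 0, s, hs => by simp [repW] at hs
  | n + 1, s, hs => by
    rw [show repW wd (n + 1) = wd ++ repW wd n from rfl, List.mem_append] at hs
    exact hs.elim (h s) (repW_letters h n s)

theorem eval_repW (wd : List ℕ) : ∀ n, evalW gG (repW wd n) = evalW gG wd ^ n
  | 0 => by simp [repW, evalW]
  | n + 1 => by rw [show repW wd (n + 1) = wd ++ repW wd n from rfl, evalW_append, eval_repW wd n, pow_succ']

/-- The radical basis. -/
noncomputable def eb (i : Fin 4) : G := evalW gG (eWords.getD i [])

theorem rad_spec (i : Fin 4) : (∀ s ∈ eWords.getD i [], s < 4) ∧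
    samePerm (repW (eWords.getD i []) 3) [] = true ∧
    ∀ j : Fin 4, samePerm (eWords.getD i [] ++ eWords.getD j []) (eWords.getD j [] ++ eWords.getD i []) = true := by
  have h := allBelow_eq_true.mp rad_all i i.2
  simp only [radOK, Bool.and_eq_true] at h
  exact ⟨lettersB_iff.1 h.1.1, h.1.2, fun j => allBelow_eq_true.mp h.2 j j.2⟩

theorem eWords_lt (i : Fin 4) : ∀ s ∈ eWords.getD i [], s < 5 := fun s hs => ((rad_spec i).1 s hs).trans (by norm_num)

theorem eb_cube (i : Fin 4) : eb i ^ 3 = 1 := by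
  rw [eb, ← eval_repW, eval_eq_of_same (repW_letters (eWords_lt i) 3) (by simp) (rad_spec i).2.1]
  rfl

theorem eb_comm (i j : Fin 4) : Commute (eb i) (eb j) := by
  show eb i * eb j = eb j * eb i
  rw [eb, eb, ← evalW_append, ← evalW_append]
  exact eval_eq_of_same (fun s hs => (List.mem_append.1 hs).elim (eWords_lt i s) (eWords_lt j s))
    (fun s hs => (List.mem_append.1 hs).elim (eWords_lt j s) (eWords_lt i s)) ((rad_spec i).2.2 j)

theorem eb_pow_mod (i : Fin 4) (n : ℕ) : eb i ^ (n % 3) = eb i ^ n := by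
  conv_rhs => rw [← Nat.mod_add_div n 3, pow_add, pow_mul, eb_cube, one_pow, mul_one]

/-- The radical element with given exponents. -/
noncomputable def eEl (a : Fin 4 → ZMod 3) : G :=
  eb 0 ^ (a 0).val * (eb 1 ^ (a 1).val * (eb 2 ^ (a 2).val * eb 3 ^ (a 3).val))

theorem mul_four {M : Type*} [Monoid M] {a b c d a' b' c' d' : M} (h1 : Commute a' b) (h2 : Commute a' c)
    (h3 : Commute a' d) (h4 : Commute b' c) (h5 : Commute b' d) (h6 : Commute c' d) :
    a * (b * (c * d)) * (a' * (b' * (c' * d'))) = a * a' * (b * b' * (c * c' * (d * d'))) := by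
  have e1 : b * (c * d) * a' = a' * (b * (c * d)) := (h1.mul_right (h2.mul_right h3)).eq.symm
  have e2 : c * d * b' = b' * (c * d) := (h4.mul_right h5).eq.symm
  have e3 : d * c' = c' * d := h6.eq.symm
  calc a * (b * (c * d)) * (a' * (b' * (c' * d')))
      = a * (b * (c * d) * a') * (b' * (c' * d')) := by simp only [mul_assoc]
    _ = a * a' * (b * (c * d * b') * (c' * d')) := by rw [e1]; simp only [mul_assoc]
    _ = a * a' * (b * b' * (c * (d * c') * d')) := by rw [e2]; simp only [mul_assoc]
    _ = a * a' * (b * b' * (c * c' * (d * d'))) := by rw [e3]; simp only [mul_assoc]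

theorem eEl_add (a b : Fin 4 → ZMod 3) : eEl (a + b) = eEl a * eEl b := by
  have h : ∀ i j (m n : ℕ), Commute (eb i ^ m) (eb j ^ n) := fun i j m n => (eb_comm i j).pow_pow m n
  rw [eEl, eEl, eEl, mul_four (h _ _ _ _) (h _ _ _ _) (h _ _ _ _) (h _ _ _ _) (h _ _ _ _) (h _ _ _ _)]
  simp only [← pow_add, Pi.add_apply, ZMod.val_add, eb_pow_mod]

theorem eEl_zero : eEl 0 = 1 := by simp [eEl]

/-- The radical. -/
noncomputable def eHom : Multiplicative (Fin 4 → ZMod 3) →* G :=
  MonoidHom.mk' (fun a => eEl a.toAdd) fun a b => eEl_add a.toAdd b.toAdd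

/-- The radical, as a subgroup. -/
noncomputable def Er : Subgroup G := eHom.range

theorem eEl_mem (a : Fin 4 → ZMod 3) : eEl a ∈ Er := ⟨Multiplicative.ofAdd a, rfl⟩

theorem mem_Er {x : G} : x ∈ Er ↔ ∃ a, eEl a = x :=
  ⟨fun ⟨a, h⟩ => ⟨a.toAdd, h⟩, fun ⟨a, h⟩ => h ▸ eEl_mem a⟩

theorem eEl_single (i : Fin 4) : eEl (Pi.single i 1) = eb i := by
  fin_cases i <;> simp [eEl, ZMod.val_one]

theorem eb_mem (i : Fin 4) : eb i ∈ Er := eEl_single i ▸ eEl_mem _

theorem eWord_letters {l : List ℕ} : ∀ s ∈ eWord l, s < 4 := by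
  intro s hs
  simp only [eWord, List.mem_append] at hs
  rcases hs with h | h | h | h
  · exact repW_letters (rad_spec 0).1 _ s h
  · exact repW_letters (rad_spec 1).1 _ s h
  · exact repW_letters (rad_spec 2).1 _ s h
  · exact repW_letters (rad_spec 3).1 _ s h

theorem eWord_lt (l : List ℕ) : ∀ s ∈ eWord l, s < 5 := fun s hs => (eWord_letters s hs).trans (by norm_num)

/-- The exponent vector of a list. -/
def vecOf (l : List ℕ) (i : Fin 4) : ZMod 3 := (l.getD i 0 : ℕ)

theorem eval_eWord (l : List ℕ) : evalW gG (eWord l) = eEl (vecOf l) := by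
  simp only [eWord, evalW_append, eval_repW, eEl, vecOf, ZMod.val_natCast, eb_pow_mod]
  rfl

theorem exp4_surj : ∀ a : Fin 4 → ZMod 3, ∃ t : Fin 81, vecOf (exp4 t) = a := by decide +kernel

theorem eHom_injective : Function.Injective eHom := by
  rw [injective_iff_map_eq_one]
  intro a ha
  obtain ⟨t, ht⟩ := exp4_surj a.toAdd
  have h := allBelow_eq_true.mp free_all t t.2
  simp only [freeOK, Bool.or_eq_true, Nat.beq_eq, Bool.not_eq_true'] at h
  rcases h with h | h
  · have h0 : vecOf (exp4 (0 : ℕ)) = 0 := by decide +kernel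
    rw [h, h0] at ht
    exact congrArg Multiplicative.ofAdd ht.symm
  · have : samePerm (eWord (exp4 t)) [] = true := allBelow_eq_true.mpr fun x hx => by
      have e : evalW gG (eWord (exp4 t)) = evalW gG [] := by rw [eval_eWord, ht]; exact ha
      have h1 := wP_spec (eWord_lt (exp4 t)) ⟨x, hx⟩
      rw [e] at h1
      rw [Nat.beq_eq, ← h1, show evalW gG [] = (1 : G) from rfl, map_one]
      rfl
    rw [h] at this
    exact absurd this Bool.false_ne_true

theorem card_Er : Nat.card Er = 81 := by
  rw [Er, ← Nat.card_congr (MonoidHom.ofInjective eHom_injective).toEquiv, Nat.card_eq_fintype_card,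
    Fintype.card_multiplicative, Fintype.card_fun, ZMod.card, Fintype.card_fin]
  norm_num

theorem ι_word_base (p : Fin 112) : ιG (evalW gG (repWords.getD p [])) p0 = p := Fin.ext (by
  rw [wP_spec (lettersB_iff.1 (repWords_spec p).1)]
  exact (repWords_spec p).2.2)

/-- The stabiliser of the base point. -/
noncomputable def Stab0 : Subgroup G where
  carrier := {g | ιG g p0 = p0}
  mul_mem' {a b} ha hb := by
    show ιG (a * b) p0 = p0
    rw [map_mul, Equiv.Perm.mul_apply, hb, ha]
  one_mem' := by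
    show ιG 1 p0 = p0
    rw [map_one, Equiv.Perm.one_apply]
  inv_mem' {a} ha := by
    show ιG a⁻¹ p0 = p0
    rw [map_inv, Equiv.Perm.inv_eq_iff_eq]
    exact ha.symm

theorem gen_fix {s : ℕ} (hs : s < 4) : gG s ∈ Stab0 := Fin.ext (by
  rw [coded_G s (hs.trans (by norm_num)) p0]
  exact Nat.eq_of_beq_eq_true (allBelow_eq_true.mp stab_fix s hs))

theorem eb_fix (i : Fin 4) : eb i ∈ Stab0 := list_prod_mem fun y hy => by
  obtain ⟨s, hs, rfl⟩ := List.mem_map.1 hy
  exact gen_fix ((rad_spec i).1 s hs)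

theorem Er_le_Stab0 : Er ≤ Stab0 := fun x hx => by
  obtain ⟨a, rfl⟩ := mem_Er.1 hx
  exact mul_mem (pow_mem (eb_fix 0) _) (mul_mem (pow_mem (eb_fix 1) _)
    (mul_mem (pow_mem (eb_fix 2) _) (pow_mem (eb_fix 3) _)))

theorem low_below : gensBelow 4 (UnitMult.FourThree.cert.D.tail) = true := by decide +kernel

theorem top_shape : UnitMult.FourThree.cert.D = UnitMult.FourThree.lv0 :: UnitMult.FourThree.cert.D.tail ∧
    UnitMult.FourThree.base.head? = some 72 := ⟨rfl, rfl⟩

theorem low_fix : fixBelow 7 pcs UnitMult.FourThree.cert.D.tail 72 = true := by decide +kernel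

theorem word0_move : allBelow UnitMult.FourThree.lv0.size (fun j =>
    Nat.beq j 0 || !Nat.beq (wP (UnitMult.FourThree.lv0.word j) 72) 72) = true := by decide +kernel

/-- The generators of the stabiliser. -/
noncomputable def stabGens : Set G := gG '' {s | s < 4}

theorem fix_mem_of_chain {n w k k' : ℕ} {H : Type*} [Group H] [Finite H] {ι : H →* Equiv.Perm (Fin n)} {g : ℕ → H}
    {cs : List ℕ} {L : Lv} {Ls : List Lv} {bs : List ℕ} {b : Fin n}
    (hc : Coded (w := w) (k := k) ι g cs) (hw : wfB (L :: Ls) = true) (hg : gensBelow k (L :: Ls) = true)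
    (hlt : ∀ c ∈ bs, c < n) (hd : distinctB w cs (L :: Ls) bs = true) (hcard : numForms (L :: Ls) = Nat.card H)
    (hfix : fixBelow w cs Ls b = true) (hlow : gensBelow k' Ls = true)
    (hmove : ∀ j < L.size, j ≠ 0 → appW w cs (L.word j) b ≠ b) {x : H} (hx : ι x b = b) :
    x ∈ Submonoid.closure (g '' {s | s < k'}) := by
  classical
  have hinj := nf_injective_of_check hc hw hg hlt hd
  let f : forms (L :: Ls) → H := fun y => nf g Lv.word (L :: Ls) y.1
  have hb : Function.Bijective f := (Nat.bijective_iff_injective_and_card f).mpr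
    ⟨fun y z e => Subtype.ext (hinj _ _ (valid_of_mem_forms y.2) (valid_of_mem_forms z.2) e),
      by simp [card_forms, hcard]⟩
  obtain ⟨⟨y, hy⟩, rfl⟩ := hb.2 x
  obtain ⟨j, r, rfl, hj, hr⟩ := valid_of_mem_forms hy
  obtain ⟨-, hw0, hword, -, hw'⟩ := wfB_cons hw
  have hg' : (allB (fun s => Nat.blt s k) L.gens && gensBelow k Ls) = true := hg
  rw [Bool.and_eq_true] at hg'
  have hl : ∀ s ∈ L.word j, s < k := fun s hs => by
    simpa [Nat.blt_eq] using allB_spec hg'.1 s (hword j hj s hs)
  have hx' : ι (evalW g (L.word j) * nf g Lv.word Ls r) b = b := hx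
  rw [map_mul, Equiv.Perm.mul_apply, nf_fix hc hw' hg'.2 hfix hr] at hx'
  have hj0 : j = 0 := by
    by_contra hne
    refine hmove j hj hne ?_
    rw [← appW_spec hc _ hl b, hx']
  show evalW g (L.word j) * nf g Lv.word Ls r ∈ _
  rw [hj0, hw0, show evalW g [] = 1 from rfl, one_mul]
  exact nf_mem_closure hw' hlow hr

theorem stab_le_closure : Stab0 ≤ Subgroup.closure stabGens := by
  intro x hx
  have hle : Submonoid.closure (gG '' {s | s < 4}) ≤ (Subgroup.closure stabGens).toSubmonoid :=
    Submonoid.closure_le.2 Subgroup.subset_closure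
  refine hle ?_
  have hw := UnitMult.FourThree.wf_ok
  have hb := UnitMult.FourThree.below_ok
  have hd := UnitMult.FourThree.distinct_ok
  have hcard : numForms UnitMult.FourThree.cert.D = Nat.card G :=
    UnitMult.FourThree.shape_ok.2.2.trans UnitMult.FourThree.card_group.symm
  rw [top_shape.1] at hw hb hd hcard
  refine fix_mem_of_chain coded_G hw hb UnitMult.FourThree.hlt hd hcard low_fix low_below (b := p0) ?_ hx
  intro j hj hne he
  have hm := allBelow_eq_true.mp word0_move j hj
  simp only [Bool.or_eq_true, Nat.beq_eq, Bool.not_eq_true'] at hm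
  rcases hm with hm | hm
  · exact hne hm
  · rw [show wP (UnitMult.FourThree.lv0.word j) 72 = 72 from he] at hm
    exact absurd hm (by simp)

theorem conj_spec {s : ℕ} (hs : s < 4) (i : Fin 4) :
    gG s * eb i * (gG s)⁻¹ = eEl (vecOf ((conjExp.getD s []).getD i [])) := by
  have h := allBelow_eq_true.mp (allBelow_eq_true.mp conj_all s hs) i i.2
  have hs5 : s < 5 := hs.trans (by norm_num)
  have e := eval_eq_of_same (fun t ht => (List.mem_cons.1 ht).elim (fun e => e ▸ hs5) (eWords_lt i t))
    (fun t ht => (List.mem_append.1 ht).elim (eWord_lt _ t) (fun ht => by rw [List.mem_singleton] at ht; exact ht ▸ hs5)) h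
  rw [evalW_cons, evalW_append, eval_eWord, show evalW gG [s] = gG s by simp [evalW]] at e
  rw [eb, e, mul_inv_cancel_right]

theorem conj_mem_Er {g x : G} (hg : g ∈ Stab0) (hx : x ∈ Er) : g * x * g⁻¹ ∈ Er := by
  have key : ∀ g ∈ Subgroup.closure stabGens, ∀ x ∈ Er, g * x * g⁻¹ ∈ Er := by
    intro g hg
    refine Subgroup.closure_induction (p := fun g _ => ∀ x ∈ Er, g * x * g⁻¹ ∈ Er) ?_ ?_ ?_ ?_ hg
    · rintro _ ⟨s, hs, rfl⟩ x hx
      obtain ⟨a, rfl⟩ := mem_Er.1 hx
      have hm : ∀ i, MulAut.conj (gG s) (eb i) ∈ Er := fun i => by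
        rw [MulAut.conj_apply, conj_spec hs]
        exact eEl_mem _
      rw [← MulAut.conj_apply, eEl]
      simp only [map_mul, map_pow]
      exact mul_mem (pow_mem (hm 0) _) (mul_mem (pow_mem (hm 1) _) (mul_mem (pow_mem (hm 2) _) (pow_mem (hm 3) _)))
    · intro x hx
      simpa using hx
    · intro a b _ _ iha ihb x hx
      have := iha _ (ihb x hx)
      simpa [mul_assoc] using this
    · intro a _ iha x hx
      obtain ⟨y, hy⟩ := Finite.surjective_of_injective (α := ↥Er) (f := fun y => (⟨a * y * a⁻¹, iha y y.2⟩ : ↥Er))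
        (fun y z h => Subtype.ext (by simpa using congrArg Subtype.val h)) ⟨x, hx⟩
      have hxy : a * (y : G) * a⁻¹ = x := congrArg Subtype.val hy
      rw [← hxy]
      simpa [mul_assoc] using y.2
  exact key g (stab_le_closure hg) x hx

theorem fix_unique {x : Fin 112} (h : ∀ i, ιG (eb i) x = x) : x = p0 := by
  have hf := allBelow_eq_true.mp fix_all x x.2
  have hh : allBelow 4 (fun i => Nat.beq (wP (eWords.getD i []) x) x) = true := allBelow_eq_true.mpr fun i hi => by
    rw [Nat.beq_eq, ← wP_spec (eWords_lt ⟨i, hi⟩)]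
    exact congrArg Fin.val (h ⟨i, hi⟩)
  simp only [fixOK, hh, Bool.not_true, Bool.or_false, Nat.beq_eq] at hf
  exact Fin.ext hf

theorem mem_Stab0_of_normalizes {g : G} (h : ∀ i, g⁻¹ * eb i * g ∈ Er) : g ∈ Stab0 :=
  fix_unique fun i => by
    have hm : ιG (g⁻¹ * eb i * g) p0 = p0 := Er_le_Stab0 (h i)
    rw [map_mul, map_mul, Equiv.Perm.mul_apply, Equiv.Perm.mul_apply, map_inv, Equiv.Perm.inv_eq_iff_eq] at hm
    exact hm

theorem index_Stab0 : Stab0.index = 112 := by
  let f : G ⧸ Stab0 → Fin 112 := Quotient.lift (fun g => ιG g p0) (fun a b hab => by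
    have h : ιG (a⁻¹ * b) p0 = p0 := QuotientGroup.leftRel_apply.1 hab
    rw [map_mul, map_inv, Equiv.Perm.mul_apply, Equiv.Perm.inv_eq_iff_eq] at h
    exact h.symm)
  have hf : Function.Bijective f := by
    refine ⟨fun x y => ?_, fun p => ⟨QuotientGroup.mk (evalW gG (repWords.getD p [])), ι_word_base p⟩⟩
    obtain ⟨a, rfl⟩ := QuotientGroup.mk_surjective x
    obtain ⟨b, rfl⟩ := QuotientGroup.mk_surjective y
    intro h
    refine QuotientGroup.eq.2 ?_
    show ιG (a⁻¹ * b) p0 = p0
    rw [map_mul, map_inv, Equiv.Perm.mul_apply, Equiv.Perm.inv_eq_iff_eq]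
    exact h.symm
  rw [Subgroup.index, Nat.card_congr (Equiv.ofBijective f hf), Nat.card_eq_fintype_card, Fintype.card_fin]

theorem card_Stab0 : Nat.card Stab0 = 29160 := by
  have h := Stab0.card_mul_index
  rw [index_Stab0, UnitMult.FourThree.card_group] at h
  omega

theorem center_eq_bot : Subgroup.center G = ⊥ := by
  rw [Subgroup.eq_bot_iff_forall]
  intro z hz
  have hc := fun g => Subgroup.mem_center_iff.1 hz g
  have h0 : ιG z p0 = p0 := fix_unique fun i => by
    rw [← Equiv.Perm.mul_apply, ← map_mul, hc, map_mul, Equiv.Perm.mul_apply, eb_fix i]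
  refine ιG_injective (Equiv.ext fun p => ?_)
  rw [map_one, Equiv.Perm.one_apply, ← ι_word_base p, ← Equiv.Perm.mul_apply, ← map_mul, ← hc, map_mul,
    Equiv.Perm.mul_apply, h0]

/-- An element moving the base point to a collinear point. -/
noncomputable def hel : G := evalW gG hWord

/-- The collinear point. -/
def pq : Fin 112 := ⟨hPoint, by decide⟩

theorem h_spec : (∀ s ∈ hWord, s < 5) ∧ (∀ s ∈ hInv, s < 5) ∧ wP hWord 72 = hPoint ∧
    samePerm (hWord ++ hInv) [] = true ∧ samePerm topWd [4] = true := by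
  have h := h_ok
  simp only [Bool.and_eq_true, Nat.beq_eq] at h
  exact ⟨lettersB_iff.1 h.1.1.1.1, lettersB_iff.1 h.1.1.1.2, h.1.1.2, h.1.2, h.2⟩

theorem hel_base : ιG hel p0 = pq := Fin.ext (by
  rw [hel, wP_spec h_spec.1]
  exact h_spec.2.2.1)

theorem eval_hInv : evalW gG hInv = hel⁻¹ := by
  refine (inv_eq_of_mul_eq_one_right ?_).symm
  rw [hel, ← evalW_append,
    eval_eq_of_same (fun s hs => (List.mem_append.1 hs).elim (h_spec.1 s) (h_spec.2.1 s)) (by simp) h_spec.2.2.2.1]
  rfl

theorem eval_conjH (wd : List ℕ) : evalW gG (conjH wd) = hel * evalW gG wd * hel⁻¹ := by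
  rw [conjH, evalW_append, evalW_append, eval_hInv, hel, mul_assoc]

theorem topWd_eq : topWd = (topWord.map topLetter).flatten := by decide +kernel

theorem topWd_lt : lettersB 5 topWd = true := by decide +kernel

theorem four_lt : lettersB 5 [4] = true := by decide +kernel

theorem conj_mem_closure {H : Type*} [Group H] (S : Subgroup H) (h : H) {x : H} (hx : x ∈ S) :
    h * x * h⁻¹ ∈ Subgroup.closure ((S : Set H) ∪ {y | h⁻¹ * y * h ∈ S}) :=
  Subgroup.subset_closure (Or.inr (by
    show h⁻¹ * (h * x * h⁻¹) * h ∈ S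
    simpa [mul_assoc] using hx))

theorem closure_eq_top : Subgroup.closure ((Stab0 : Set G) ∪ {x | hel⁻¹ * x * hel ∈ Stab0}) = ⊤ := by
  set H := Subgroup.closure ((Stab0 : Set G) ∪ {x | hel⁻¹ * x * hel ∈ Stab0})
  have hsmall : ∀ s < 4, gG s ∈ H := fun s hs => Subgroup.subset_closure (Or.inl (gen_fix hs))
  have hconj : ∀ s < 4, hel * gG s * hel⁻¹ ∈ H := fun s hs =>
    conj_mem_closure Stab0 hel (gen_fix hs)
  have htop : ∀ l : List ℕ, (∀ s ∈ l, s < 8) → evalW gG (l.map topLetter).flatten ∈ H := by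
    intro l
    induction l with
    | nil => exact fun _ => one_mem H
    | cons s r ih =>
      intro hl
      rw [List.map_cons, List.flatten_cons, evalW_append]
      refine mul_mem ?_ (ih fun t ht => hl t (List.mem_cons_of_mem _ ht))
      unfold topLetter
      by_cases hs : s < 4
      · rw [show Nat.blt s 4 = true by rw [Nat.blt_eq]; exact hs, cond_true]
        simpa [evalW] using hsmall s hs
      · rw [show Nat.blt s 4 = false from Bool.eq_false_iff.2 fun e => hs (by rw [Nat.blt_eq] at e; exact e),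
          cond_false, eval_conjH, show evalW gG [Nat.sub s 4] = gG (Nat.sub s 4) by simp [evalW]]
        exact hconj _ (show s - 4 < 4 by have := hl s List.mem_cons_self; omega)
  have h4 : gG 4 ∈ H := by
    have := htop topWord (lettersB_iff.1 (show lettersB 8 topWord = true by decide +kernel))
    rw [← topWd_eq, eval_eq_of_same (lettersB_iff.1 topWd_lt) (lettersB_iff.1 four_lt) h_spec.2.2.2.2] at this
    simpa [evalW] using this
  rw [eq_top_iff]
  intro x _
  have hle : Submonoid.closure (gG '' {s | s < 5}) ≤ H.toSubmonoid := Submonoid.closure_le.2 (by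
    rintro _ ⟨s, hs, rfl⟩
    rcases Nat.lt_or_ge s 4 with h | h
    · exact hsmall s h
    · rw [show s = 4 by simp only [Set.mem_ofPred_eq] at hs; omega]
      exact h4)
  exact hle (UnitMult.FourThree.gen_generates x)

/-- The radical elements fixing the collinear point. -/
noncomputable def stabVec (i : Fin 27) : Fin 4 → ZMod 3 := vecOf (stabExp.getD i [])

theorem stabVec_injective : Function.Injective stabVec := by
  unfold Function.Injective stabVec
  decide +kernel

theorem stabVec_fix (i : Fin 27) : ιG (eEl (stabVec i)) pq = pq := by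
  have h := stabExp_ok
  simp only [Bool.and_eq_true, Nat.beq_eq] at h
  have hi : stabExp.getD i [] ∈ stabExp := by
    rw [List.getD_eq_getElem _ _ (by rw [h.2]; exact i.2)]
    exact List.getElem_mem _
  rw [stabVec, ← eval_eWord]
  exact Fin.ext ((wP_spec (eWord_lt _) pq).trans (Nat.eq_of_beq_eq_true (allB_spec h.1 _ hi)))

/-- The radical elements in the conjugate radical. -/
noncomputable def interVec (i : Fin 3) : Fin 4 → ZMod 3 := vecOf (commonExp.getD i [])

theorem interVec_spec : Function.Injective interVec ∧ interVec 1 ≠ 0 := by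
  unfold Function.Injective interVec
  decide +kernel

theorem interVec_conj (i : Fin 3) : hel⁻¹ * eEl (interVec i) * hel ∈ Er := by
  have h := eval_eq_of_same (eWord_lt _) (fun s hs => by
    simp only [conjH, List.mem_append] at hs
    rcases hs with h | h | h
    exacts [h_spec.1 s h, eWord_lt _ s h, h_spec.2.1 s h]) (allBelow_eq_true.mp common_ok i i.2)
  rw [eval_conjH, eval_eWord, eval_eWord] at h
  rw [interVec, h]
  simpa [mul_assoc] using eEl_mem _

theorem inter_cases {x : G} (hx : x ∈ Er) (hc : hel⁻¹ * x * hel ∈ Er) : ∃ i, x = eEl (interVec i) := by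
  obtain ⟨a, rfl⟩ := mem_Er.1 hx
  obtain ⟨b, hb⟩ := mem_Er.1 hc
  obtain ⟨t, ht⟩ := exp4_surj a
  obtain ⟨u, hu⟩ := exp4_surj b
  have hh := allBelow_eq_true.mp inter_all t t.2
  simp only [interOK, Bool.or_eq_true] at hh
  rcases hh with hh | hh
  · have hmem : ∀ l : List (List ℕ), List.rec (motive := fun _ => Bool) false
        (fun c _ r => natsEq (exp4 t) c || r) l = true → exp4 t ∈ l := by
      intro l
      induction l with
      | nil => exact fun h => absurd h Bool.false_ne_true
      | cons c r ih =>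
        intro h
        have h' : (natsEq (exp4 t) c || List.rec (motive := fun _ => Bool) false
          (fun c _ r => natsEq (exp4 t) c || r) r) = true := h
        rw [Bool.or_eq_true] at h'
        exact h'.elim (fun h => natsEq_eq h ▸ List.mem_cons_self) fun h => List.mem_cons_of_mem _ (ih h)
    obtain ⟨i, hi, he⟩ := List.getElem_of_mem (hmem commonExp hh)
    refine ⟨⟨i, hi⟩, ?_⟩
    rw [interVec, List.getD_eq_getElem _ _ hi, he, ht]
  · have h' := allBelow_eq_true.mp hh u u.2
    have hs : samePerm (eWord (exp4 t)) (conjH (eWord (exp4 u))) = true := allBelow_eq_true.mpr fun y hy => by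
      have e : evalW gG (eWord (exp4 t)) = evalW gG (conjH (eWord (exp4 u))) := by
        rw [eval_conjH, eval_eWord, eval_eWord, ht, hu, hb]
        group
      rw [Nat.beq_eq, ← wP_spec (eWord_lt _) ⟨y, hy⟩, e, wP_spec (fun s hs => ?_) ⟨y, hy⟩]
      simp only [conjH, List.mem_append] at hs
      rcases hs with h | h | h
      exacts [h_spec.1 s h, eWord_lt _ s h, h_spec.2.1 s h]
    rw [hs] at h'
    exact absurd h' (by simp)

end Cfsg.Agent.U62
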