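import Cfsg.Agent.U62.Mat
import Cfsg.Agent.U62.Data
import Cfsg.Agent.StemCert.Perm
import Cfsg.Agent.UnitMult.FourThreeData

/-!
# Conditions to be verified by evaluation
-/

set_option autoImplicit false

namespace Cfsg.Agent.U62

open Cfsg.Agent.Compute Cfsg.Agent.StemCert

/-- The packed permutations of the five generators of the group on 112 points. -/
noncomputable abbrev pcs : List ℕ := UnitMult.FourThree.codes

/-- A generator matrix. -/
noncomputable def aC (s : ℕ) : ℕ := aCodes.getD s 0

/-- The matrix of a word. -/
noncomputable def wC (wd : List ℕ) : ℕ := evalC aCodes wd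

/-- A representative matrix. -/
noncomputable def rC (p : ℕ) : ℕ := repCodes.getD p 0

/-- The image of a point under a word. -/
noncomputable def wP (wd : List ℕ) (x : ℕ) : ℕ := appW 7 pcs wd x

/-- A word all of whose letters are below a bound. -/
noncomputable def lettersB (k : ℕ) (wd : List ℕ) : Bool := allB (fun s => Nat.blt s k) wd

/-- Two words act in the same way on the 112 points. -/
noncomputable def samePerm (a b : List ℕ) : Bool :=
  allBelow 112 fun x => Nat.beq (wP a x) (wP b x)

/-- The product of commutators on codes. -/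
noncomputable def commC (l : List (ℕ × ℕ)) : ℕ :=
  List.rec (motive := fun _ => ℕ) idC
    (fun p _ r => mulC (mulC (mulC (aC p.1) (aC p.2)) (mulC (starC (aC p.1)) (starC (aC p.2)))) r) l

/-- The checks on one generator. -/
noncomputable def genOK (s : ℕ) : Bool :=
  Nat.beq (mulC (starC (aC s)) (aC s)) idC &&
    allB (fun p => Nat.blt p.1 5 && Nat.blt p.2 5) (UnitMult.FourThree.cert.comms.getD s []) &&
    Nat.blt (commScal.getD s 0) 3 &&
    Nat.beq (aC s)
      (mulC (commC (UnitMult.FourThree.cert.comms.getD s [])) (scalC (Nat.add 1 (commScal.getD s 0))))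

/-- The checks on one representative. -/
noncomputable def repOK (p : ℕ) : Bool :=
  lettersB 5 (repWords.getD p []) && Nat.beq (rC p) (wC (repWords.getD p [])) &&
    Nat.beq (wP (repWords.getD p []) 72) p

/-- The action of a generator on one representative. -/
noncomputable def actOK (s p : ℕ) : Bool :=
  Nat.blt (getField 7 (pcs.getD s 0) p) 112 &&
    monB (mulC (starC (rC (getField 7 (pcs.getD s 0) p))) (mulC (aC s) (rC p)))

/-- A representative lies in no earlier frame. -/
noncomputable def distOK (p : ℕ) : Bool :=
  allBelow p fun q => !monB (mulC (starC (rC q)) (rC p))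

/-- The permutation matrices, as lists of images. -/
def permImgs : List (List ℕ) := [[1, 2, 0, 3, 4, 5], [1, 2, 3, 4, 0, 5], [1, 0, 3, 2, 4, 5], [0, 1, 2, 4, 5, 3]]

/-- A permutation matrix. -/
noncomputable def permC (l : List ℕ) : ℕ := mkC fun i j => cond (Nat.beq i (l.getD j 0)) 1 0

/-- The exponents of the diagonal matrix with `w` at place `k` and its square at the next place. -/
noncomputable def diagExp (k : ℕ) : ℕ := Nat.add (Nat.pow 3 k) (Nat.mul 2 (Nat.pow 3 (Nat.add k 1)))

/-- The transposition matrix. -/
noncomputable def tauC : ℕ := permC [1, 0, 2, 3, 4, 5]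

/-- The checks on the transposition, for one generator. -/
noncomputable def tauOK (s : ℕ) : Bool :=
  lettersB 5 (tauWords.getD s []) && Nat.beq (mulC tauC (mulC (aC s) tauC)) (wC (tauWords.getD s []))

/-- The sum of the six exponents, modulo three. -/
noncomputable def expSum (e : ℕ) : ℕ :=
  Nat.mod (Nat.add (dig3 e 0) (Nat.add (dig3 e 1) (Nat.add (dig3 e 2)
    (Nat.add (dig3 e 3) (Nat.add (dig3 e 4) (dig3 e 5)))))) 3

/-- All exponents are equal. -/
noncomputable def constB (e : ℕ) : Bool := allBelow 6 fun i => Nat.beq (dig3 e i) (dig3 e 0)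

/-- Only scalars among diagonal matrices fix the frame of a chosen point. -/
noncomputable def kerOK (e : ℕ) : Bool :=
  !Nat.beq (expSum e) 0 || constB e || !monB (mulC (starC (rC 0)) (mulC (diagC e) (rC 0)))

/-- The frame of the collinear point is not in the twisted orbit. -/
noncomputable def twistOK (k p : ℕ) : Bool :=
  !monB (mulC (starC (rC p)) (mulC (diagC k) (mulC (rC hPoint) (diagC (Nat.sub 3 k)))))

/-- Membership in a mask. -/
noncomputable def bitB (m i : ℕ) : Bool := Nat.beq (Nat.mod (Nat.shiftRight m i) 2) 1

/-- The matrix having one column, supported on a mask. -/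
noncomputable def colC (m e : ℕ) : ℕ :=
  mkC fun i j => cond (Nat.beq j 0 && bitB m i) (Nat.add 1 (dig3 e i)) 0

/-- The exponents vanish off a mask. -/
noncomputable def suppB (m e : ℕ) : Bool := allBelow 6 fun i => bitB m i || Nat.beq (dig3 e i) 0

/-- All lines on a mask with given sum of exponents lie in one frame. -/
noncomputable def lineOK (m ka q k : ℕ) : Bool :=
  allBelow 729 fun e => !suppB m e || !Nat.beq (expSum e) ka ||
    monB (mulC (starC (mulC (diagC k) (rC q))) (colC m e))

/-- The frame recorded for a pair of sums on a mask and its complement. -/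
noncomputable def witOK (t : ℕ) : Bool :=
  Nat.blt (witness.getD t (0, 0)).1 112 && Nat.blt (witness.getD t (0, 0)).2 3 &&
    lineOK (masks.getD (Nat.div t 9) 0) (Nat.mod (Nat.div t 3) 3)
      (witness.getD t (0, 0)).1 (witness.getD t (0, 0)).2 &&
    lineOK (Nat.sub 63 (masks.getD (Nat.div t 9) 0)) (Nat.mod t 3)
      (witness.getD t (0, 0)).1 (witness.getD t (0, 0)).2

/-- Orthogonal lines of three entries have the same sum of exponents. -/
noncomputable def orthOK (a b : ℕ) : Bool :=
  !Nat.beq (Nat.xor (mulQ (cjQ (Nat.add 1 (dig3 a 0))) (Nat.add 1 (dig3 b 0)))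
      (Nat.xor (mulQ (cjQ (Nat.add 1 (dig3 a 1))) (Nat.add 1 (dig3 b 1)))
        (mulQ (cjQ (Nat.add 1 (dig3 a 2))) (Nat.add 1 (dig3 b 2))))) 0 ||
    Nat.beq (Nat.mod (Nat.add (dig3 a 0) (Nat.add (dig3 a 1) (dig3 a 2))) 3)
      (Nat.mod (Nat.add (dig3 b 0) (Nat.add (dig3 b 1) (dig3 b 2))) 3)

/-- A power of a word. -/
noncomputable def repW (wd : List ℕ) (n : ℕ) : List ℕ :=
  Nat.rec (motive := fun _ => List ℕ) [] (fun _ r => wd ++ r) n

/-- The word of an element of the radical with given exponents. -/
noncomputable def eWord (l : List ℕ) : List ℕ :=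
  repW (eWords.getD 0 []) (l.getD 0 0) ++ (repW (eWords.getD 1 []) (l.getD 1 0) ++
    (repW (eWords.getD 2 []) (l.getD 2 0) ++ repW (eWords.getD 3 []) (l.getD 3 0)))

/-- The exponents numbered below 81. -/
noncomputable def exp4 (t : ℕ) : List ℕ := [dig3 t 0, dig3 t 1, dig3 t 2, dig3 t 3]

/-- The checks on the basis of the radical. -/
noncomputable def radOK (i : ℕ) : Bool :=
  lettersB 4 (eWords.getD i []) && samePerm (repW (eWords.getD i []) 3) [] &&
    allBelow 4 fun j => samePerm (eWords.getD i [] ++ eWords.getD j []) (eWords.getD j [] ++ eWords.getD i [])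

/-- Conjugation of the radical by a stabiliser generator. -/
noncomputable def conjOK (s i : ℕ) : Bool :=
  samePerm (s :: eWords.getD i []) (eWord ((conjExp.getD s []).getD i []) ++ [s])

/-- Only the identity has trivial action. -/
noncomputable def freeOK (t : ℕ) : Bool := Nat.beq t 0 || !samePerm (eWord (exp4 t)) []

/-- The radical fixes one point only. -/
noncomputable def fixOK (x : ℕ) : Bool :=
  Nat.beq x 72 || !allBelow 4 fun i => Nat.beq (wP (eWords.getD i []) x) x

/-- The conjugate of an element of the radical. -/
noncomputable def conjH (wd : List ℕ) : List ℕ := hWord ++ (wd ++ hInv)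

/-- The translation of the letters of the last word. -/
noncomputable def topLetter (s : ℕ) : List ℕ := cond (Nat.blt s 4) [s] (conjH [Nat.sub s 4])

/-- The word for the last generator. -/
noncomputable def topWd : List ℕ := List.rec (motive := fun _ => List ℕ) [] (fun s _ r => topLetter s ++ r) topWord

/-- Membership of a list of exponents among those of the intersection. -/
noncomputable def commonB (l : List ℕ) : Bool :=
  List.rec (motive := fun _ => Bool) false (fun c _ r => natsEq l c || r) commonExp

/-- The only common elements of two radicals are the recorded ones. -/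
noncomputable def interOK (t : ℕ) : Bool :=
  commonB (exp4 t) || allBelow 81 fun u => !samePerm (eWord (exp4 t)) (conjH (eWord (exp4 u)))

end Cfsg.Agent.U62
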