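import Cfsg.Agent.U62.Frame

/-!
# The three classes

The twisted copies are standard covers; any cover is conjugate to one of them, and no two of them are
conjugate, as a conjugating element may be taken to normalise the diagonal subgroup.
-/

set_option autoImplicit false

noncomputable section

namespace Cfsg.Agent.U62

open Matrix Cfsg.Agent.Compute Cfsg.Agent.StemCert

variable {F : Type} [Field F] [CharP F 2] [Root F] [Fintype F]

theorem zU_ne_one : (zU : U F) ≠ 1 := fun h => by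
  have h' := congrArg mat h
  rw [mat_zU, map_one, Matrix.scalar_apply, ← Matrix.diagonal_one] at h'
  have h2 : Root.w (F := F) ^ 1 = Root.w (F := F) ^ 0 := by
    rw [pow_one, pow_zero]
    exact congrFun (Matrix.diagonal_injective h') 0
  have := w_pow_eq_iff.1 h2
  omega

/-- The standard cover. -/
def cover0 (hF : Fintype.card F = 4) : Cover (K0 : Subgroup (U F)) where
  ψ := φ
  surj := φ_surjective
  card_ker := by
    have : Fact (Nat.Prime 3) := ⟨Nat.prime_three⟩
    rw [ker_eq_zpowers hF, Nat.card_zpowers]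
    exact orderOf_eq_prime (Subtype.ext zU_cube) fun h => zU_ne_one (congrArg Subtype.val h)
  central := by
    rw [ker_eq_zpowers hF, Subgroup.zpowers_le, Subgroup.mem_center_iff]
    exact fun g => Subtype.ext (mat_commute_scalar _ mat_zU (g : U F)).symm

theorem diag_rad : ∀ k : Fin 5, ∃ t : Fin 81, samePerm (diagWords.getD k []) (eWord (exp4 t)) = true := by
  decide +kernel

theorem dU_mem_pre (hF : Fintype.card F = 4) {k : ℕ} (hk : k < 5) : (dU k : U F) ∈ (cover0 hF).pre Er := by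
  refine (cover0 hF).mem_pre.2 ⟨dU_mem_K0 hk, ?_⟩
  obtain ⟨t, ht⟩ := diag_rad ⟨k, hk⟩
  have e := eval_eq_of_same (lettersB_iff.1 (diagWords_spec hk).1) (eWord_lt _) ht
  show φ (⟨evalW gA (diagWords.getD k []), word_mem (diagWords_spec hk).1⟩ : ↥(K0 : Subgroup (U F))) ∈ Er
  rw [φ_word (diagWords_spec hk).1, e, eval_eWord]
  exact eEl_mem _

theorem cover0_pre (hF : Fintype.card F = 4) : (cover0 (F := F) hF).pre Er = Dg := by
  symm
  refine Subgroup.eq_of_le_of_card_ge (fun x hx => ?_) (by rw [(cover0 hF).card_pre_Er, card_Dg hF])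
  obtain ⟨n, rfl⟩ := exists_dN hF hx
  have h : ∀ k < 5, (dU k : U F) ∈ (cover0 hF).pre Er := fun k hk => dU_mem_pre hF hk
  exact mul_mem (pow_mem (h 0 (by norm_num)) _) (mul_mem (pow_mem (h 1 (by norm_num)) _)
    (mul_mem (pow_mem (h 2 (by norm_num)) _)
      (mul_mem (pow_mem (h 3 (by norm_num)) _) (pow_mem (h 4 (by norm_num)) _))))

theorem dK_fix (k : Fin 3) {x : U F} (hx : x ∈ Dg) : dK k x = x := by
  refine mat_injective ?_
  have hc : tm (diagC k) * mat x = mat x * tm (diagC k) := by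
    rw [mat_of_mem_Dg hx, tm, toMat_diagC, Matrix.diagonal_mul_diagonal, Matrix.diagonal_mul_diagonal]
    exact congrArg _ (funext fun i => mul_comm _ _)
  rw [mat_dK, hc, mul_assoc, (twist_facts k).2, mul_one]

/-- The three twisted copies. -/
def Kk (k : Fin 3) : Subgroup (U F) := K0.map (dK k)

/-- They are covers. -/
def coverK (hF : Fintype.card F = 4) (k : Fin 3) : Cover (Kk k : Subgroup (U F)) :=
  (cover0 hF).map (dK k) (dK_injective k)

theorem coverK_pre (hF : Fintype.card F = 4) (k : Fin 3) : (coverK (F := F) hF k).pre Er = Dg := by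
  symm
  refine Subgroup.eq_of_le_of_card_ge (fun x hx => ?_) (by rw [(coverK hF k).card_pre_Er, card_Dg hF])
  rw [← dK_fix k hx]
  refine ((cover0 hF).mem_pre_map (dK k) (dK_injective k) Er).2 ?_
  rwa [cover0_pre hF]

theorem Kk_zero : (Kk 0 : Subgroup (U F)) = K0 := by
  rw [Kk, show (dK 0 : U F →* U F) = MonoidHom.id _ from MonoidHom.ext dK_zero, Subgroup.map_id]

theorem rep_mem_Kk (k : Fin 3) (q : Fin 112) : dK k (repU q : U F) ∈ Kk k :=
  Subgroup.mem_map_of_mem _ (word_mem (repWords_spec q).1)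

theorem MonEven_le_Kk (hF : Fintype.card F = 4) (k : Fin 3) : (MonEven : Subgroup (U F)) ≤ Kk k := by
  rw [← (coverK hF k).inf_Mon (coverK_pre hF k) hF]
  exact inf_le_left

/-- Every cover is conjugate to a twisted copy. -/
theorem exists_conj (hF : Fintype.card F = 4) {K : Subgroup (U F)} (c : Cover K) :
    ∃ (g : U F) (k : Fin 3), K.map (MulAut.conj g).toMonoidHom = Kk k := by
  obtain ⟨g, hg⟩ := exists_conj_Dg hF (c.pre Er) (fun x hx y hy => c.pre_Er_comm hx hy)
    (fun x hx => c.pre_Er_cube hx) c.card_pre_Er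
  refine ⟨g, ?_⟩
  set f : U F →* U F := (MulAut.conj g).toMonoidHom
  let c' := c.map f (MulAut.conj g).injective
  have hD : c'.pre Er = Dg := by
    symm
    refine Subgroup.eq_of_le_of_card_ge (fun x hx => ?_) (by rw [c'.card_pre_Er, card_Dg hF])
    rw [← hg] at hx
    obtain ⟨y, hy, rfl⟩ := hx
    exact (c.mem_pre_map f (MulAut.conj g).injective Er).2 hy
  obtain ⟨k, q, hn⟩ := c'.exists_rep hD hF
  refine ⟨k, Subgroup.eq_of_le_of_card_ge (c'.le_closure.trans ((Subgroup.closure_le _).2 ?_)) (by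
    rw [(coverK hF k).card_top, c'.card_top])⟩
  rw [c'.pre_Stab0_even hD hF]
  rintro x (hx | hx)
  · exact MonEven_le_Kk hF k hx
  · have hx' : (c'.sig : U F)⁻¹ * x * c'.sig ∈ MonEven := hx
    have h := mul_mem (mul_mem (rep_mem_Kk k q) (MonEven_le_Kk hF k (MonEven_normal hn hx')))
      (inv_mem (rep_mem_Kk k q))
    simpa [mul_assoc] using h

theorem tau_ok : (Nat.beq (mulC (starC tauC) tauC) idC && Nat.beq (starC tauC) tauC && monB tauC) = true := by
  decide +kernel

theorem tau_place : ∀ j : Fin 6, getE tauC (Equiv.swap (0 : Fin 6) 1 j) j ≠ 0 := by decide +kernel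

theorem tau_facts : adj (tm tauC) * tm tauC = (1 : Matrix (Fin 6) (Fin 6) F) ∧
    (tm tauC : Matrix (Fin 6) (Fin 6) F).det = 1 := by
  have h := tau_ok
  simp only [Bool.and_eq_true, Nat.beq_eq] at h
  have h1 : adj (tm tauC) * tm tauC = (1 : Matrix (Fin 6) (Fin 6) F) := by rw [← tm_star, ← tm_mul, h.1.1, tm_id]
  refine ⟨h1, ?_⟩
  rw [← tm_star, h.1.2] at h1
  have h2 := congrArg Matrix.det h1
  rw [Matrix.det_mul, Matrix.det_one] at h2
  exact frobenius_inj F 2 (by simpa [frobenius_def, pow_two] using h2)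

/-- An odd monomial element normalising the standard cover. -/
def τU : U F := mk (tm tauC) tau_facts.1 tau_facts.2

theorem τU_inv : (τU : U F)⁻¹ = τU := mat_injective (by
  have h := tau_ok
  simp only [Bool.and_eq_true, Nat.beq_eq] at h
  rw [mat_inv, τU, mat_mk, ← tm_star, h.1.2])

theorem τU_mem : (τU : U F) ∈ Mon := by
  have h := tau_ok
  simp only [Bool.and_eq_true] at h
  exact (monB_iff Root.hw _).1 h.2

theorem πM_τU : πM (⟨τU, τU_mem⟩ : ↥(Mon : Subgroup (U F))) = Equiv.swap 0 1 := Equiv.ext fun j =>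
  place_eq τU_mem ((val_ne_zero_iff Root.hw (getE_lt _ _ _)).2 (tau_place j))

theorem τU_conj {x : U F} (hx : x ∈ K0) : τU * x * τU ∈ K0 := by
  suffices h : (K0 : Subgroup (U F)) ≤ K0.comap (MulAut.conj (τU : U F)).toMonoidHom by
    have := h hx
    rw [Subgroup.mem_comap] at this
    simpa [MulAut.conj_apply, τU_inv] using this
  rw [K0, Subgroup.closure_le]
  rintro _ ⟨s, hs, rfl⟩
  have h := allBelow_eq_true.mp tau_all s hs
  simp only [tauOK, Bool.and_eq_true, Nat.beq_eq] at h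
  show τU * gA s * τU⁻¹ ∈ K0
  have e : (τU : U F) * gA s * τU⁻¹ = evalW gA (tauWords.getD s []) := mat_injective (by
    rw [τU_inv, map_mul, map_mul, τU, mat_mk, mat_gA hs, mat_word h.1, ← h.2, tm_mul, tm_mul, mul_assoc])
  rw [e]
  exact word_mem h.1

theorem mem_MonEven {n : U F} (hn : n ∈ Mon) (h : Equiv.Perm.sign (πM ⟨n, hn⟩) = 1) : n ∈ MonEven :=
  ⟨⟨n, hn⟩, Equiv.Perm.mem_alternatingGroup.2 h, rfl⟩

theorem Mon_conj_K0 (hF : Fintype.card F = 4) {n x : U F} (hn : n ∈ Mon) (hx : x ∈ K0) : n * x * n⁻¹ ∈ K0 := by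
  have hle : (MonEven : Subgroup (U F)) ≤ K0 := Kk_zero (F := F) ▸ MonEven_le_Kk hF 0
  rcases Int.units_eq_one_or (Equiv.Perm.sign (πM ⟨n, hn⟩)) with h | h
  · exact mul_mem (mul_mem (hle (mem_MonEven hn h)) hx) (inv_mem (hle (mem_MonEven hn h)))
  · have hm := mul_mem hn (τU_mem (F := F))
    have hev : n * τU ∈ MonEven := mem_MonEven hm (by
      rw [show (⟨n * τU, hm⟩ : ↥(Mon : Subgroup (U F))) = ⟨n, hn⟩ * ⟨τU, τU_mem⟩ from rfl, map_mul, map_mul, h,
        πM_τU, Equiv.Perm.sign_swap (by decide)]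
      rfl)
    have h2 := mul_mem (mul_mem (hle hev) (τU_conj hx)) (inv_mem (hle hev))
    have ht : (τU : U F) * τU = 1 := by nth_rw 1 [← τU_inv]; exact inv_mul_cancel _
    have e : n * x * n⁻¹ = n * τU * (τU * x * τU) * (n * τU)⁻¹ := by
      rw [_root_.mul_inv_rev, τU_inv,
        show n * τU * (τU * x * τU) * (τU * n⁻¹) = n * (τU * τU) * x * (τU * τU) * n⁻¹ by simp only [mul_assoc],
        ht, mul_one, mul_one]
    rw [e]
    exact h2

theorem Mon_map_dK (k : Fin 3) : (Mon : Subgroup (U F)).map (dK k) = Mon :=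
  Subgroup.eq_of_le_of_card_ge (by
      rintro _ ⟨x, hx, rfl⟩
      exact dK_mem_Mon k hx)
    (by rw [Subgroup.card_map_of_injective (dK_injective k)])

theorem Mon_conj_Kk (hF : Fintype.card F = 4) (k : Fin 3) {n x : U F} (hn : n ∈ Mon) (hx : x ∈ Kk k) :
    n * x * n⁻¹ ∈ Kk k := by
  rw [← Mon_map_dK k] at hn
  obtain ⟨m, hm, rfl⟩ := hn
  obtain ⟨y, hy, rfl⟩ := hx
  exact ⟨m * y * m⁻¹, Mon_conj_K0 hF hm hy, by simp⟩

theorem sum_of_expSum {s : Fin 6 → Fin 3} (hs : expSum (enc s) = 0) :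
    ((s 0 : ℕ) + s 1 + s 2 + s 3 + s 4 + s 5) % 3 = 0 := by
  change (dig3 (enc s) (0 : Fin 6) + (dig3 (enc s) (1 : Fin 6) + (dig3 (enc s) (2 : Fin 6) +
    (dig3 (enc s) (3 : Fin 6) + (dig3 (enc s) (4 : Fin 6) + dig3 (enc s) (5 : Fin 6)))))) % 3 = 0 at hs
  simp only [dig3_enc] at hs
  omega

theorem two_classes : ∀ t : Fin 6 → Fin 3, (∀ c, classSize t c = 0 ∨ classSize t c = 3) →
    ∀ i i1, t i1 ≠ t 0 → t i = t 0 ∨ t i = t i1 := by
  decide +kernel

/-- An elementary abelian monomial subgroup of order 243 is diagonal. -/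
theorem eq_Dg_of_le_Mon (hF : Fintype.card F = 4) {B : Subgroup (U F)} (hB : B ≤ Mon)
    (hc : ∀ x ∈ B, ∀ y ∈ B, x * y = y * x) (hcube : ∀ x ∈ B, x ^ 3 = 1) (hcard : Nat.card B = 243) :
    B = Dg := by
  classical
  let f : ↥B →* Equiv.Perm (Fin 6) := (πM : ↥(Mon : Subgroup (U F)) →* _).comp (Subgroup.inclusion hB)
  have hprod := f.ker.card_mul_index
  rw [Subgroup.index_ker, hcard] at hprod
  have hI : ∀ p ∈ f.range, p ^ 3 = 1 := by
    rintro _ ⟨x, rfl⟩
    rw [← map_pow, show x ^ 3 = 1 from Subtype.ext (hcube _ x.2), map_one]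
  have hkD : ∀ x : ↥f.ker, ((x : ↥B) : U F) ∈ Dg := fun x =>
    ker_πM_mem (y := Subgroup.inclusion hB x.1) (MonoidHom.mem_ker.1 x.2)
  choose t _ hts ht using fun x : ↥f.ker => exists_code hF (hkD x)
  have htinj : Function.Injective t := fun x y h => Subtype.ext (Subtype.ext
    (Dg_ext (hkD x) (hkD y) fun i => by rw [ht, ht, h]))
  have hinv : ∀ x : ↥f.ker, ∀ p ∈ f.range, ∀ j, t x (p j) = t x j := by
    rintro x _ ⟨b, rfl⟩ j
    have he : mat ((x : ↥B) : U F) * mat (b : U F) = mat (b : U F) * mat ((x : ↥B) : U F) := by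
      rw [← map_mul, ← map_mul, hc _ x.1.2 _ b.2]
    have he' := congrFun (congrFun he (place (b : U F) j)) j
    rw [mat_of_mem_Dg (hkD x), Matrix.diagonal_mul, Matrix.mul_diagonal] at he'
    have h2 := mul_right_cancel₀ (place_spec (b : U F) j) (he'.trans (mul_comm _ _))
    rw [ht, ht, w_pow_eq_iff] at h2
    show t x (place (b : U F) j) = t x j
    exact Fin.ext (by have := (t x (place (b : U F) j)).2; have := (t x j).2; omega)
  have h9 := card_le_nine hI
  suffices hI1 : ∀ b : ↥B, f b = 1 by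
    refine Subgroup.eq_of_le_of_card_ge (fun x hx => ?_) (by rw [card_Dg hF, hcard])
    exact ker_πM_mem (y := Subgroup.inclusion hB ⟨x, hx⟩) (hI1 ⟨x, hx⟩)
  by_contra hne
  push Not at hne
  obtain ⟨b, hb⟩ := hne
  rcases Nat.lt_or_ge (Nat.card f.range) 4 with hI4 | hI4
  · -- the invariant exponents of an element of order three are few
    obtain ⟨a, ha⟩ : ∃ a, f b a ≠ a := by
      by_contra h
      push Not at h
      exact hb (Equiv.ext h)
    set σ := f b with hσ
    have hmem : σ ∈ f.range := ⟨b, rfl⟩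
    have h3 : σ (σ (σ a)) = a := by
      have := congrArg (fun p : Equiv.Perm (Fin 6) => p a) (hI σ hmem)
      simpa [pow_succ] using this
    have hab : a ≠ σ a := Ne.symm ha
    have hbc : σ a ≠ σ (σ a) := fun h => hab (σ.injective h)
    have hac : a ≠ σ (σ a) := fun h => by
      rw [← h] at h3
      exact ha h3
    have hk : Nat.card f.ker ≤ 27 := by
      let S := Finset.univ.filter fun u : Fin 6 → Fin 3 => u a = u (σ a) ∧ u (σ a) = u (σ (σ a)) ∧
        ((u 0 : ℕ) + u 1 + u 2 + u 3 + u 4 + u 5) % 3 = 0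
      have hmemS : ∀ x, t x ∈ S := fun x => Finset.mem_filter.2 ⟨Finset.mem_univ _, (hinv x σ hmem a).symm,
        (hinv x σ hmem (σ a)).symm, sum_of_expSum (hts x)⟩
      calc Nat.card f.ker ≤ Nat.card ↥S :=
            Nat.card_le_card_of_injective (fun x => ⟨t x, hmemS x⟩) fun x y h => htinj (congrArg Subtype.val h)
        _ ≤ 27 := by rw [Nat.card_eq_finsetCard]; exact three_fixed a (σ a) (σ (σ a)) hab hbc hac
    have := Nat.mul_le_mul hk (Nat.le_of_lt_succ hI4)
    omega
  · have hnine := nine_dvd_card hI hI4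
    have hk : 27 ≤ Nat.card f.ker := by
      by_contra hlt
      push Not at hlt
      have := Nat.mul_le_mul (Nat.le_of_lt_succ hlt) h9
      omega
    by_cases hx : ∃ x i, t x i ≠ t x 0
    · obtain ⟨x, i1, hi1⟩ := hx
      have hs := sum_of_expSum (hts x)
      have hcl := class_three (t x) hs ⟨i1, hi1⟩ hnine (hinv x)
      have hle : Nat.card f.ker ≤ 9 := by
        refine le_trans (Nat.card_le_card_of_injective (fun y => (t y 0, t y i1)) fun y z h => htinj (funext fun i => ?_))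
          (by simp)
        rw [Prod.mk.injEq] at h
        have hy := fun {i j} (e : t x i = t x j) => invariant_const (t x) hs ⟨i1, hi1⟩ hnine (hinv x) (t y) (hinv y) e
        have hz := fun {i j} (e : t x i = t x j) => invariant_const (t x) hs ⟨i1, hi1⟩ hnine (hinv x) (t z) (hinv z) e
        rcases two_classes (t x) hcl i i1 hi1 with e | e
        · rw [hy e, hz e, h.1]
        · rw [hy e, hz e, h.2]
      omega
    · push Not at hx
      have hle : Nat.card f.ker ≤ 3 := by
        refine le_trans (Nat.card_le_card_of_injective (fun y => t y 0) fun y z h => htinj (funext fun i => ?_))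
          (by simp)
        rw [hx y i, hx z i]
        exact h
      omega

/-- A subgroup of three-power order of a cover has a conjugate among its monomial elements. -/
theorem exists_conj_le_Mon (hF : Fintype.card F = 4) (k : Fin 3) {A : Subgroup (U F)} (hA : A ≤ Kk k)
    (hcube : ∀ x ∈ A, x ^ 3 = 1) : ∃ x ∈ (Kk k : Subgroup (U F)), ∀ a ∈ A, x⁻¹ * a * x ∈ Mon := by
  have : Fact (Nat.Prime 3) := ⟨Nat.prime_three⟩
  set M := (MonEven : Subgroup (U F)).subgroupOf (Kk k)
  have hp : IsPGroup 3 ↥A := fun a => ⟨1, Subtype.ext (by simpa using hcube _ a.2)⟩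
  letI : MulAction ↥A (↥(Kk k : Subgroup (U F)) ⧸ M) := MulAction.compHom _ (Subgroup.inclusion hA)
  have hidx : Nat.card (↥(Kk k : Subgroup (U F)) ⧸ M) = 112 := by
    have h := Subgroup.card_eq_card_quotient_mul_card_subgroup M
    rw [(coverK hF k).card_top, Nat.card_congr (Subgroup.subgroupOfEquivOfLe (MonEven_le_Kk hF k)).toEquiv,
      ← (coverK hF k).pre_Stab0_even (coverK_pre hF k) hF, (coverK hF k).card_pre, card_Stab0] at h
    omega
  have hfix := hp.card_modEq_card_fixedPoints (↥(Kk k : Subgroup (U F)) ⧸ M)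
  have hne : Nonempty (MulAction.fixedPoints ↥A (↥(Kk k : Subgroup (U F)) ⧸ M)) := by
    refine (Nat.card_pos_iff.1 (Nat.pos_of_ne_zero fun h0 => ?_)).1
    rw [h0, hidx] at hfix
    exact absurd hfix (by decide)
  obtain ⟨⟨q, hq⟩⟩ := hne
  obtain ⟨x, rfl⟩ := QuotientGroup.mk_surjective q
  refine ⟨x.1, x.2, fun a ha => MonEven_le_Mon ?_⟩
  have h := hq ⟨a, ha⟩
  change ((Subgroup.inclusion hA ⟨a, ha⟩ * x : ↥(Kk k : Subgroup (U F))) : ↥(Kk k : Subgroup (U F)) ⧸ M) = x at h
  rw [eq_comm, QuotientGroup.eq, Subgroup.mem_subgroupOf] at h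
  simpa [mul_assoc] using h

/-- Conjugate twisted copies are equal. -/
theorem eq_of_conj (hF : Fintype.card F = 4) {i j : Fin 3} {g : U F}
    (hg : (Kk i : Subgroup (U F)).map (MulAut.conj g).toMonoidHom = Kk j) : (Kk i : Subgroup (U F)) = Kk j := by
  have hmap : ∀ y ∈ (Kk i : Subgroup (U F)), g * y * g⁻¹ ∈ Kk j := fun y hy => hg ▸ ⟨y, hy, rfl⟩
  set A := (Dg : Subgroup (U F)).map (MulAut.conj g).toMonoidHom with hAdef
  have hDi : (Dg : Subgroup (U F)) ≤ Kk i := coverK_pre (F := F) hF i ▸ (coverK hF i).pre_le Er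
  have hA : A ≤ Kk j := hg ▸ Subgroup.map_mono hDi
  obtain ⟨x, hx, hxA⟩ := exists_conj_le_Mon hF j hA (by
    rintro _ ⟨d, hd, rfl⟩
    rw [← map_pow, Dg_cube hF hd, map_one])
  set n := x⁻¹ * g with hn
  set B := (Dg : Subgroup (U F)).map (MulAut.conj n).toMonoidHom with hBdef
  have hB : B = Dg := by
    refine eq_Dg_of_le_Mon hF ?_ ?_ ?_ ?_
    · rintro _ ⟨d, hd, rfl⟩
      have := hxA _ ⟨d, hd, rfl⟩
      simpa [n, mul_assoc] using this
    · rintro _ ⟨a, ha, rfl⟩ _ ⟨b, hb, rfl⟩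
      rw [← map_mul, ← map_mul, Dg_comm ha hb]
    · rintro _ ⟨d, hd, rfl⟩
      rw [← map_pow, Dg_cube hF hd, map_one]
    · rw [Subgroup.card_map_of_injective (MulEquiv.injective _), card_Dg hF]
  have hnM : n ∈ Mon := mem_Mon_of_normalizes fun d hd => (mem_conj_map_iff _ _ _).1 (show d ∈ B by rw [hB]; exact hd)
  refine Subgroup.eq_of_le_of_card_ge (fun z hz => ?_) (by rw [(coverK hF i).card_top, (coverK hF j).card_top])
  have h1 : n⁻¹ * z * n ∈ Kk i := by simpa using Mon_conj_Kk hF i (inv_mem hnM) hz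
  have h2 := mul_mem (mul_mem (inv_mem hx) (hmap _ h1)) hx
  simpa [n, mul_assoc] using h2

theorem twist_not_mem {k : Fin 3} (hk : (k : ℕ) ≠ 0) : dK k (repU pq : U F) ∉ K0 := by
  intro h
  obtain ⟨p, hp⟩ := K0_le_Om h p0
  rw [cos, cos, repU_base, MulAction.Quotient.smul_coe, smul_eq_mul, mul_one, eq_comm, QuotientGroup.eq] at hp
  have hc := allBelow_eq_true.mp twist_check k k.2
  simp only [Bool.and_eq_true, Bool.or_eq_true, Nat.beq_eq, hk, false_or] at hc
  rw [monB_mul_star p (A := mulC (diagC k) (mulC (rC hPoint) (diagC (Nat.sub 3 k)))) (by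
    rw [mat_dK, mat_repU, show ((pq : Fin 112) : ℕ) = hPoint from rfl, ← tm_star, hc.2, tm_mul, tm_mul,
      mul_assoc])] at hp
  have ht := allBelow_eq_true.mp twist_all p p.2
  simp only [Bool.and_eq_true] at ht
  have hk3 : (k : ℕ) = 1 ∨ (k : ℕ) = 2 := by have := k.2; omega
  have ht' : twistOK k p = true := by rcases hk3 with e | e <;> rw [e] <;> [exact ht.1; exact ht.2]
  simp only [twistOK, hp, Bool.not_true] at ht'
  exact Bool.noConfusion ht'

theorem Kk_ne_zero {k : Fin 3} (hk : (k : ℕ) ≠ 0) : (Kk 0 : Subgroup (U F)) ≠ Kk k := fun h => by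
  have := rep_mem_Kk (F := F) k pq
  rw [← h, Kk_zero] at this
  exact twist_not_mem hk this

theorem Kk_one_ne_two : (Kk 1 : Subgroup (U F)) ≠ Kk 2 := fun h => by
  have he : (dK 2 : U F →* U F) = (dK 1).comp (dK 1) := MonoidHom.ext fun x => mat_injective (by
    rw [MonoidHom.comp_apply, mat_dK, mat_dK, mat_dK,
      show diagC ((2 : Fin 3) : ℕ) = mulC (diagC ((1 : Fin 3) : ℕ)) (diagC ((1 : Fin 3) : ℕ)) by decide +kernel,
      tm_mul, adj_mul]
    simp only [mul_assoc])
  have h' : (K0 : Subgroup (U F)).map (dK 1) = (K0.map (dK 1)).map (dK 1) := by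
    rw [Subgroup.map_map, ← he]
    exact h
  have h2 := Subgroup.map_injective (dK_injective 1) h'
  exact Kk_ne_zero (k := 1) (by decide) (Kk_zero.trans h2)

end Cfsg.Agent.U62
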