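import Cfsg.Agent.U62.CheckDefs

/-!
# The verified conditions
-/

set_option autoImplicit false
set_option maxRecDepth 100000

namespace Cfsg.Agent.U62

open Cfsg.Agent.Compute Cfsg.Agent.StemCert

theorem gen_all : allBelow 5 genOK = true := by decide +kernel

theorem rep_all : allBelow 112 repOK = true := by decide +kernel

theorem rep_base : Nat.beq (rC 72) idC = true := by decide +kernel

theorem act_all : allBelow 5 (fun s => allBelow 112 (actOK s)) = true := by decide +kernel

theorem scal_ok : (lettersB 5 scalWord && Nat.beq (wC scalWord) (scalC 2)) = true := by decide +kernel

theorem perm_all : allBelow 4 (fun i => lettersB 5 (permWords.getD i []) &&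
    Nat.beq (wC (permWords.getD i [])) (permC (permImgs.getD i []))) = true := by decide +kernel

theorem diag_all : allBelow 5 (fun i => lettersB 5 (diagWords.getD i []) &&
    Nat.beq (wC (diagWords.getD i [])) (diagC (diagExp i))) = true := by decide +kernel

theorem tau_all : allBelow 5 tauOK = true := by decide +kernel

theorem ker_all : allBelow 729 kerOK = true := by decide +kernel

theorem twist_all : allBelow 112 (fun p => twistOK 1 p && twistOK 2 p) = true := by decide +kernel

theorem orth_all : allBelow 27 (fun a => allBelow 27 (orthOK a)) = true := by decide +kernel

theorem stab_fix : allBelow 4 (fun s => Nat.beq (getField 7 (pcs.getD s 0) 72) 72) = true := by decide +kernel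

theorem rad_all : allBelow 4 radOK = true := by decide +kernel

theorem conj_all : allBelow 4 (fun s => allBelow 4 (conjOK s)) = true := by decide +kernel

theorem free_all : allBelow 81 freeOK = true := by decide +kernel

theorem fix_all : allBelow 112 fixOK = true := by decide +kernel

theorem h_ok : (lettersB 5 hWord && lettersB 5 hInv && Nat.beq (wP hWord 72) hPoint &&
    samePerm (hWord ++ hInv) [] && samePerm topWd [4]) = true := by decide +kernel

theorem stabExp_ok : (allB (fun l => Nat.beq (wP (eWord l) hPoint) hPoint) stabExp &&
    Nat.beq stabExp.length 27) = true := by decide +kernel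

theorem common_ok : allBelow 3 (fun i =>
    samePerm (eWord (commonExp.getD i [])) (conjH (eWord (commonExp'.getD i [])))) = true := by decide +kernel

theorem inter_all : allBelow 81 interOK = true := by decide +kernel

end Cfsg.Agent.U62
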