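import Cfsg.Agent.U62.CheckDefs

/-!
# The representatives give different frames
-/

set_option autoImplicit false
set_option maxRecDepth 100000

namespace Cfsg.Agent.U62

open Cfsg.Agent.Compute

theorem dist_a : allBelow 56 distOK = true := by decide +kernel

theorem dist_b : allBelow 24 (fun i => distOK (Nat.add i 56)) = true := by decide +kernel

theorem dist_c : allBelow 20 (fun i => distOK (Nat.add i 80)) = true := by decide +kernel

theorem dist_d : allBelow 12 (fun i => distOK (Nat.add i 100)) = true := by decide +kernel

end Cfsg.Agent.U62
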