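import Cfsg.Agent.U62.CheckDefs

/-!
# Orthogonal full lines on three places have the same sum of exponents
-/

set_option autoImplicit false
set_option maxRecDepth 100000

namespace Cfsg.Agent.U62

open Cfsg.Agent.Compute

/-- Two orthogonal lines on a mask have the same sum of exponents. -/
noncomputable def lineOrthB (m e : ℕ) : Bool :=
  !suppB m e || allBelow 729 fun e' => !suppB m e' || Nat.beq (expSum e) (expSum e') ||
    !Nat.beq (getE (mulC (starC (colC m e')) (colC m e)) 0 0) 0

theorem line_orth_all : allBelow 20 (fun i => allBelow 729 (lineOrthB (masks.getD i 0))) = true := by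
  decide +kernel

theorem mask_cover : ∀ S : Fin 6 → Bool, (Finset.univ.filter fun i => S i = true).card = 3 →
    ∃ t : Fin 20, ∀ i : Fin 6, bitB (masks.getD t 0) i = S i ∧ bitB (Nat.sub 63 (masks.getD t 0)) i = !S i := by
  decide +kernel

end Cfsg.Agent.U62
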