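import Cfsg.Agent.U62.CheckDefs

/-!
# Every frame with two blocks of three lies in one of the orbits
-/

set_option autoImplicit false
set_option maxRecDepth 100000

namespace Cfsg.Agent.U62

open Cfsg.Agent.Compute

theorem wit_a : allBelow 60 witOK = true := by decide +kernel

theorem wit_b : allBelow 60 (fun i => witOK (Nat.add i 60)) = true := by decide +kernel

theorem wit_c : allBelow 60 (fun i => witOK (Nat.add i 120)) = true := by decide +kernel

end Cfsg.Agent.U62
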