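import Mathlib

/-!
# Colourings of six points invariant under a group of permutations of order divisible by nine

If three colours are used with weights summing to zero modulo three, two classes of three points occur,
each permuted transitively.
-/

set_option autoImplicit false

namespace Cfsg.Agent.U62

/-- The number of permutations preserving a colouring. -/
def fibProd {ι : Type} [Fintype ι] [DecidableEq ι] (f : Fin 6 → ι) : ℕ :=
  ∏ c : ι, (Finset.univ.filter fun j => f j = c).card.factorial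

/-- The size of a class. -/
def classSize {ι : Type} [DecidableEq ι] (f : Fin 6 → ι) (c : ι) : ℕ :=
  (Finset.univ.filter fun j => f j = c).card

theorem card_dvd_fibProd {ι : Type} [Fintype ι] [DecidableEq ι] (f : Fin 6 → ι)
    (I : Subgroup (Equiv.Perm (Fin 6))) (h : ∀ σ ∈ I, ∀ j, f (σ j) = f j) : Nat.card I ∣ fibProd f := by
  classical
  let S : Subgroup (Equiv.Perm (Fin 6)) :=
    { carrier := {σ | f ∘ σ = f}
      mul_mem' := fun {a b} ha hb => by
        show f ∘ (a * b) = f
        rw [Equiv.Perm.coe_mul, ← Function.comp_assoc, ha, hb]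
      one_mem' := by show f ∘ (1 : Equiv.Perm (Fin 6)) = f; rfl
      inv_mem' := fun {a} ha => by
        show f ∘ (a⁻¹ : Equiv.Perm (Fin 6)) = f
        funext x
        have := congrFun ha (a⁻¹ x)
        simpa using this.symm }
  have hle : I ≤ S := fun σ hσ => funext (h σ hσ)
  refine (Subgroup.card_dvd_of_le hle).trans (dvd_of_eq ?_)
  show Nat.card {g : Equiv.Perm (Fin 6) // f ∘ g = f} = _
  rw [Nat.card_eq_fintype_card, DomMulAct.stabilizer_card f]
  exact Finset.prod_congr rfl fun c _ => by rw [Fintype.card_subtype]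

theorem classes_three : ∀ t : Fin 6 → Fin 3, ((t 0 : ℕ) + t 1 + t 2 + t 3 + t 4 + t 5) % 3 = 0 →
    (∃ i, t i ≠ t 0) → 9 ∣ fibProd t → ∀ c, classSize t c = 0 ∨ classSize t c = 3 := by
  decide +kernel

/-- The colouring refined by a set of points. -/
def refineBy (t : Fin 6 → Fin 3) (S : Fin 6 → Bool) (i : Fin 6) : Fin 3 × Bool := (t i, S i)

theorem no_split : ∀ t : Fin 6 → Fin 3, (∀ c, classSize t c = 0 ∨ classSize t c = 3) →
    ∀ S : Fin 6 → Bool, 9 ∣ fibProd (refineBy t S) → ∀ i j, t i = t j → S i = S j := by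
  decide +kernel

theorem three_fixed : ∀ a b c : Fin 6, a ≠ b → b ≠ c → a ≠ c →
    (Finset.univ.filter fun t : Fin 6 → Fin 3 => t a = t b ∧ t b = t c ∧
      ((t 0 : ℕ) + t 1 + t 2 + t 3 + t 4 + t 5) % 3 = 0).card ≤ 27 := by
  decide +kernel

section Facts

variable {I : Subgroup (Equiv.Perm (Fin 6))}

theorem nine_dvd_card (hI : ∀ σ ∈ I, σ ^ 3 = 1) (h9 : 4 ≤ Nat.card I) : 9 ∣ Nat.card I := by
  have : Fact (Nat.Prime 3) := ⟨Nat.prime_three⟩
  have hp : IsPGroup 3 I := fun σ => ⟨1, by
    rw [pow_one]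
    exact Subtype.ext (hI σ σ.2)⟩
  obtain ⟨n, hn⟩ := IsPGroup.iff_card.1 hp
  rw [hn] at h9 ⊢
  match n with
  | 0 => simp at h9
  | 1 => simp at h9
  | n + 2 => exact ⟨3 ^ n, by rw [pow_add]; ring⟩

theorem card_le_nine (hI : ∀ σ ∈ I, σ ^ 3 = 1) : Nat.card I ≤ 9 := by
  have : Fact (Nat.Prime 3) := ⟨Nat.prime_three⟩
  have hp : IsPGroup 3 I := fun σ => ⟨1, by
    rw [pow_one]
    exact Subtype.ext (hI σ σ.2)⟩
  obtain ⟨n, hn⟩ := IsPGroup.iff_card.1 hp
  have hd : 3 ^ n ∣ 720 := by
    rw [← hn, show (720 : ℕ) = Nat.card (Equiv.Perm (Fin 6)) by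
      rw [Nat.card_eq_fintype_card, Fintype.card_perm, Fintype.card_fin]; rfl]
    exact Subgroup.card_subgroup_dvd_card I
  rw [hn]
  by_contra hlt
  have h3 : 3 ≤ n := by
    by_contra h
    have : 3 ^ n ≤ 3 ^ 2 := Nat.pow_le_pow_right (by norm_num) (by omega)
    omega
  have : 27 ∣ 720 := (pow_dvd_pow 3 h3).trans hd
  norm_num at this

variable (t : Fin 6 → Fin 3) (hs : ((t 0 : ℕ) + t 1 + t 2 + t 3 + t 4 + t 5) % 3 = 0)
  (hne : ∃ i, t i ≠ t 0) (h9 : 9 ∣ Nat.card I) (ht : ∀ σ ∈ I, ∀ j, t (σ j) = t j)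

include hs hne h9 ht

theorem class_three (c : Fin 3) : classSize t c = 0 ∨ classSize t c = 3 :=
  classes_three t hs hne (h9.trans (card_dvd_fibProd t I ht)) c

theorem invariant_const (t' : Fin 6 → Fin 3) (ht' : ∀ σ ∈ I, ∀ j, t' (σ j) = t' j) {i j : Fin 6}
    (hij : t i = t j) : t' i = t' j := by
  have h := no_split t (class_three t hs hne h9 ht) (fun k => decide (t' k = t' i))
    (h9.trans (card_dvd_fibProd _ I fun σ hσ k => by simp [refineBy, ht σ hσ k, ht' σ hσ k])) i j hij
  simpa [eq_comm] using h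

theorem exists_moved (j : Fin 6) : ∃ σ ∈ I, σ j ≠ j := by
  by_contra h
  push Not at h
  have hfix : ∀ σ ∈ I, ∀ k, decide (σ k = j) = decide (k = j) := fun σ hσ k => by
    rw [decide_eq_decide]
    exact ⟨fun e => σ.injective (e.trans (h σ hσ).symm), fun e => e ▸ h σ hσ⟩
  have hns := no_split t (class_three t hs hne h9 ht) (fun k => decide (k = j))
    (h9.trans (card_dvd_fibProd _ I fun σ hσ k => by simp only [refineBy, ht σ hσ k, hfix σ hσ k]))
  have hall : (Finset.univ.filter fun k => t k = t j) ⊆ {j} := fun k hk => by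
    have := hns k j (Finset.mem_filter.1 hk).2
    simpa using this
  have := Finset.card_le_card hall
  rcases class_three t hs hne h9 ht (t j) with h0 | h0
  · exact absurd h0 (Finset.card_ne_zero.2 ⟨j, by simp⟩)
  · rw [classSize] at h0
    simp [h0] at this

end Facts

end Cfsg.Agent.U62
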