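import Cfsg.Agent.U62.GFacts

/-!
# Subgroups of SU(6,2) mapping onto PSU(4,3) with central kernel of order three

The preimage of the radical of a point stabiliser is elementary abelian of order 243: an invariant
alternating form and an invariant linear form on the radical vanish.
-/

set_option autoImplicit false

noncomputable section

namespace Cfsg.Agent.U62

open scoped commutatorElement

variable {F : Type} [Field F]

/-- A central cover of PSU(4,3) inside SU(6,2). -/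
structure Cover (K : Subgroup (U F)) where
  /-- The covering map. -/
  ψ : ↥K →* G
  surj : Function.Surjective ψ
  card_ker : Nat.card ψ.ker = 3
  central : ψ.ker ≤ Subgroup.center ↥K

namespace Cover

variable {K : Subgroup (U F)} (c : Cover K)

/-- The preimage of a subgroup. -/
def pre (H : Subgroup G) : Subgroup (U F) := (H.comap c.ψ).map K.subtype

theorem mem_pre {H : Subgroup G} {x : U F} : x ∈ c.pre H ↔ ∃ h : x ∈ K, c.ψ ⟨x, h⟩ ∈ H := by
  constructor
  · rintro ⟨⟨y, hy⟩, hH, rfl⟩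
    exact ⟨hy, hH⟩
  · rintro ⟨h, hH⟩
    exact ⟨⟨x, h⟩, hH, rfl⟩

theorem pre_le (H : Subgroup G) : c.pre H ≤ K := Subgroup.map_subtype_le _

include c in
theorem card_top : Nat.card K = 3 * 3265920 := by
  rw [Subgroup.card_eq_card_quotient_mul_card_subgroup c.ψ.ker,
    Nat.card_congr (QuotientGroup.quotientKerEquivOfSurjective c.ψ c.surj).toEquiv,
    c.card_ker, UnitMult.FourThree.card_group]

include c in
theorem finite_top : Finite ↥K := Nat.finite_of_card_ne_zero (by rw [c.card_top]; norm_num)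

theorem card_pre (H : Subgroup G) : Nat.card (c.pre H) = 3 * Nat.card H := by
  rw [pre, Subgroup.card_map_of_injective K.subtype_injective]
  have h1 := (H.comap c.ψ).card_mul_index
  have h2 := H.card_mul_index
  rw [Subgroup.index_comap_of_surjective H c.surj, c.card_top] at h1
  rw [UnitMult.FourThree.card_group] at h2
  have hi : H.index ≠ 0 := fun h => by rw [h] at h2; simp at h2
  refine Nat.eq_of_mul_eq_mul_right (Nat.pos_of_ne_zero hi) ?_
  rw [h1, mul_assoc, h2]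

theorem center_eq : Subgroup.center ↥K = c.ψ.ker := by
  refine le_antisymm (fun z hz => ?_) c.central
  rw [MonoidHom.mem_ker, ← Subgroup.mem_bot, ← center_eq_bot]
  refine Subgroup.mem_center_iff.2 fun g => ?_
  obtain ⟨x, rfl⟩ := c.surj g
  rw [← map_mul, ← map_mul, Subgroup.mem_center_iff.1 hz x]

theorem comm_central {z : ↥K} (hz : c.ψ z = 1) (x : ↥K) : Commute z x :=
  (Subgroup.mem_center_iff.1 (c.central (MonoidHom.mem_ker.2 hz)) x).symm

/-- An additive logarithm on the kernel. -/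
noncomputable def lam : ↥c.ψ.ker ≃* Multiplicative (ZMod 3) :=
  haveI : Fact (Nat.Prime 3) := ⟨Nat.prime_three⟩
  mulEquivOfPrimeCardEq c.card_ker (by rw [Nat.card_eq_fintype_card, Fintype.card_multiplicative, ZMod.card])

/-- The preimage of the radical, inside the cover. -/
def radK : Subgroup ↥K := Er.comap c.ψ

theorem Er_comm {x y : G} (hx : x ∈ Er) (hy : y ∈ Er) : x * y = y * x := by
  obtain ⟨a, rfl⟩ := mem_Er.1 hx
  obtain ⟨b, rfl⟩ := mem_Er.1 hy
  rw [← eEl_add, ← eEl_add, add_comm]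

theorem comm_mem_ker (x y : ↥c.radK) : ⁅(x : ↥K), (y : ↥K)⁆ ∈ c.ψ.ker := by
  rw [MonoidHom.mem_ker, map_commutatorElement]
  exact commutatorElement_eq_one_iff_mul_comm.2 (Er_comm x.2 y.2)

/-- Commutation with a fixed element. -/
noncomputable def comHom (y : ↥c.radK) : ↥c.radK →* Multiplicative (ZMod 3) :=
  MonoidHom.mk' (fun x => c.lam ⟨⁅(x : ↥K), (y : ↥K)⁆, c.comm_mem_ker x y⟩) fun x z => by
    rw [← map_mul]
    refine congrArg c.lam (Subtype.ext ?_)
    show ⁅(x : ↥K) * z, (y : ↥K)⁆ = ⁅(x : ↥K), (y : ↥K)⁆ * ⁅(z : ↥K), (y : ↥K)⁆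
    have hx := (c.comm_central (MonoidHom.mem_ker.1 (c.comm_mem_ker z y)) (x : ↥K)).eq
    have hq := (c.comm_central (MonoidHom.mem_ker.1 (c.comm_mem_ker z y)) ⁅(x : ↥K), (y : ↥K)⁆).eq
    rw [← hq]
    calc ⁅(x : ↥K) * z, (y : ↥K)⁆ = (x : ↥K) * ⁅(z : ↥K), (y : ↥K)⁆ * (x : ↥K)⁻¹ * ⁅(x : ↥K), (y : ↥K)⁆ := by
          simp only [commutatorElement_def]; group
      _ = _ := by rw [← hx, mul_inv_cancel_right]

/-- The commutator as an element of the integers modulo three. -/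
noncomputable def com (x y : ↥c.radK) : ZMod 3 := (c.comHom y x).toAdd

theorem com_mul (x z y : ↥c.radK) : c.com (x * z) y = c.com x y + c.com z y := by
  simp [com, map_mul, toAdd_mul]

theorem com_pow (x y : ↥c.radK) (n : ℕ) : c.com (x ^ n) y = n * c.com x y := by
  simp [com, map_pow, toAdd_pow]

theorem com_swap (x y : ↥c.radK) : c.com x y = -c.com y x := by
  rw [com, com, ← toAdd_inv]
  congr 1
  show c.lam ⟨⁅(x : ↥K), (y : ↥K)⁆, c.comm_mem_ker x y⟩ = (c.lam ⟨⁅(y : ↥K), (x : ↥K)⁆, c.comm_mem_ker y x⟩)⁻¹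
  rw [← map_inv]
  exact congrArg c.lam (Subtype.ext (commutatorElement_inv _ _).symm)

theorem com_self (x : ↥c.radK) : c.com x x = 0 := by
  show (c.lam ⟨⁅(x : ↥K), (x : ↥K)⁆, c.comm_mem_ker x x⟩).toAdd = 0
  rw [show (⟨⁅(x : ↥K), (x : ↥K)⁆, c.comm_mem_ker x x⟩ : ↥c.ψ.ker) = 1 from Subtype.ext (commutatorElement_self _),
    map_one, toAdd_one]

theorem com_eq_zero_iff (x y : ↥c.radK) : c.com x y = 0 ↔ Commute (x : ↥K) (y : ↥K) := by
  show (c.lam ⟨⁅(x : ↥K), (y : ↥K)⁆, c.comm_mem_ker x y⟩).toAdd = 0 ↔ _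
  rw [toAdd_eq_zero, MulEquiv.map_eq_one_iff]
  exact ⟨fun h => commutatorElement_eq_one_iff_mul_comm.1 (congrArg Subtype.val h),
    fun h => Subtype.ext (commutatorElement_eq_one_iff_mul_comm.2 h)⟩

theorem com_ker {z : ↥c.radK} (hz : c.ψ (z : ↥K) = 1) (y : ↥c.radK) : c.com z y = 0 :=
  (c.com_eq_zero_iff z y).2 (c.comm_central hz _)

/-- A chosen preimage of a basis element. -/
noncomputable def tb (i : Fin 4) : ↥c.radK :=
  ⟨(c.surj (eb i)).choose, by
    show c.ψ (c.surj (eb i)).choose ∈ Er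
    rw [(c.surj (eb i)).choose_spec]
    exact eb_mem i⟩

theorem ψ_tb (i : Fin 4) : c.ψ (c.tb i : ↥K) = eb i := (c.surj (eb i)).choose_spec

/-- The product of chosen preimages with given exponents. -/
noncomputable def T (a : Fin 4 → ZMod 3) : ↥c.radK :=
  c.tb 0 ^ (a 0).val * (c.tb 1 ^ (a 1).val * (c.tb 2 ^ (a 2).val * c.tb 3 ^ (a 3).val))

theorem ψ_T (a : Fin 4 → ZMod 3) : c.ψ (c.T a : ↥K) = eEl a := by
  simp only [T, Subgroup.coe_mul, SubmonoidClass.coe_pow, map_mul, map_pow, ψ_tb, eEl]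

theorem com_T_left (a : Fin 4 → ZMod 3) (y : ↥c.radK) :
    c.com (c.T a) y = ∑ i, a i * c.com (c.tb i) y := by
  rw [T, com_mul, com_mul, com_mul, com_pow, com_pow, com_pow, com_pow, Fin.sum_univ_four]
  simp only [ZMod.natCast_zmod_val]
  ring

theorem decomp (x : ↥c.radK) : ∃ (z : ↥c.radK) (a : Fin 4 → ZMod 3), c.ψ (z : ↥K) = 1 ∧ x = z * c.T a := by
  obtain ⟨a, ha⟩ := mem_Er.1 (show c.ψ (x : ↥K) ∈ Er from x.2)
  refine ⟨x * (c.T a)⁻¹, a, ?_, by group⟩
  rw [Subgroup.coe_mul, Subgroup.coe_inv, map_mul, map_inv, ψ_T, ha, mul_inv_cancel]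

/-- The bilinear form in coordinates. -/
def bil (β : Fin 4 → Fin 4 → ZMod 3) (a b : Fin 4 → ZMod 3) : ZMod 3 :=
  ∑ i, a i * ∑ j, b j * β i j

theorem com_TT (a b : Fin 4 → ZMod 3) :
    c.com (c.T a) (c.T b) = bil (fun i j => c.com (c.tb i) (c.tb j)) a b := by
  rw [com_T_left, bil]
  refine Finset.sum_congr rfl fun i _ => ?_
  rw [c.com_swap (c.tb i) (c.T b), com_T_left, ← Finset.sum_neg_distrib]
  congr 1
  refine Finset.sum_congr rfl fun j _ => ?_
  rw [c.com_swap (c.tb j) (c.tb i)]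
  ring

/-- A chosen preimage of a stabiliser generator. -/
noncomputable def nb (s : Fin 4) : ↥K := (c.surj (gG s)).choose

theorem ψ_nb (s : Fin 4) : c.ψ (c.nb s) = gG s := (c.surj (gG s)).choose_spec

/-- Conjugation by that preimage. -/
noncomputable def cn (s : Fin 4) (x : ↥c.radK) : ↥c.radK :=
  ⟨c.nb s * x * (c.nb s)⁻¹, by
    show c.ψ _ ∈ Er
    rw [map_mul, map_mul, map_inv, ψ_nb]
    exact conj_mem_Er (gen_fix s.2) x.2⟩

/-- The exponents of conjugates of the basis. -/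
noncomputable def cA (s i : Fin 4) : Fin 4 → ZMod 3 := vecOf ((conjExp.getD s []).getD i [])

theorem cn_tb (s i : Fin 4) : ∃ z : ↥c.radK, c.ψ (z : ↥K) = 1 ∧ c.cn s (c.tb i) = z * c.T (cA s i) := by
  refine ⟨c.cn s (c.tb i) * (c.T (cA s i))⁻¹, ?_, by group⟩
  rw [Subgroup.coe_mul, Subgroup.coe_inv, map_mul, map_inv, ψ_T, cA, ← conj_spec s.2 i,
    show (c.cn s (c.tb i) : ↥K) = c.nb s * (c.tb i : ↥K) * (c.nb s)⁻¹ from rfl, map_mul, map_mul, map_inv, ψ_nb,
    ψ_tb, mul_inv_cancel]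

theorem com_cn (s : Fin 4) (x y : ↥c.radK) : c.com (c.cn s x) (c.cn s y) = c.com x y := by
  show (c.lam _).toAdd = (c.lam _).toAdd
  congr 2
  refine Subtype.ext ?_
  show ⁅c.nb s * (x : ↥K) * (c.nb s)⁻¹, c.nb s * (y : ↥K) * (c.nb s)⁻¹⁆ = ⁅(x : ↥K), (y : ↥K)⁆
  rw [← MulAut.conj_apply, ← MulAut.conj_apply, ← map_commutatorElement, MulAut.conj_apply,
    ← (c.comm_central (MonoidHom.mem_ker.1 (c.comm_mem_ker x y)) _).eq, mul_inv_cancel_right]

/-- An alternating array. -/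
def altArr (v : Fin 6 → ZMod 3) (i j : Fin 4) : ZMod 3 :=
  ![![0, v 0, v 1, v 2], ![-v 0, 0, v 3, v 4], ![-v 1, -v 3, 0, v 5], ![-v 2, -v 4, -v 5, 0]] i j

theorem altArr_of (β : Fin 4 → Fin 4 → ZMod 3) (h0 : ∀ i, β i i = 0) (h1 : ∀ i j, β i j = -β j i) (i j : Fin 4) :
    β i j = altArr ![β 0 1, β 0 2, β 0 3, β 1 2, β 1 3, β 2 3] i j := by
  fin_cases i <;> fin_cases j <;> first | exact h0 _ | rfl | exact h1 _ _

theorem no_form : ∀ v : Fin 6 → ZMod 3,
    (∀ s i j : Fin 4, altArr v i j = bil (altArr v) (cA s i) (cA s j)) → v = 0 := by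
  decide +kernel

theorem no_linear : ∀ γ : Fin 4 → ZMod 3, (∀ s i : Fin 4, γ i = ∑ k, cA s i k * γ k) → γ = 0 := by
  decide +kernel

theorem com_tb_zero (i j : Fin 4) : c.com (c.tb i) (c.tb j) = 0 := by
  let v : Fin 6 → ZMod 3 := ![c.com (c.tb 0) (c.tb 1), c.com (c.tb 0) (c.tb 2), c.com (c.tb 0) (c.tb 3),
    c.com (c.tb 1) (c.tb 2), c.com (c.tb 1) (c.tb 3), c.com (c.tb 2) (c.tb 3)]
  have hv : ∀ i j, c.com (c.tb i) (c.tb j) = altArr v i j :=
    altArr_of (fun i j => c.com (c.tb i) (c.tb j)) (fun i => c.com_self _) (fun i j => c.com_swap _ _)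
  have h0 := no_form v fun s i j => by
    obtain ⟨z, hz, e1⟩ := c.cn_tb s i
    obtain ⟨z', hz', e2⟩ := c.cn_tb s j
    rw [← hv, ← c.com_cn s, e1, e2, com_mul, c.com_ker hz, zero_add, c.com_swap, com_mul, c.com_ker hz',
      zero_add, ← c.com_swap, com_TT, show (fun i j => c.com (c.tb i) (c.tb j)) = altArr v from
        funext fun i => funext fun j => hv i j]
  rw [hv, h0]
  exact (by decide : ∀ i j : Fin 4, altArr 0 i j = 0) i j

theorem radK_comm (x y : ↥c.radK) : Commute (x : ↥K) (y : ↥K) := by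
  obtain ⟨z, a, hz, rfl⟩ := c.decomp x
  obtain ⟨z', b, hz', rfl⟩ := c.decomp y
  rw [← com_eq_zero_iff, com_mul, c.com_ker hz, zero_add, c.com_swap, com_mul, c.com_ker hz', zero_add,
    ← c.com_swap, com_TT]
  simp [bil, com_tb_zero]

theorem Er_cube {x : G} (hx : x ∈ Er) : x ^ 3 = 1 := by
  obtain ⟨a, rfl⟩ := mem_Er.1 hx
  rw [pow_succ, pow_two, ← eEl_add, ← eEl_add]
  have : a + a + a = 0 := funext fun i => (by decide : ∀ u : ZMod 3, u + u + u = 0) (a i)
  rw [this, eEl_zero]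

theorem cube_mem_ker (x : ↥c.radK) : (x : ↥K) ^ 3 ∈ c.ψ.ker := by
  rw [MonoidHom.mem_ker, map_pow, Er_cube x.2]

/-- The cube, as an element of the integers modulo three. -/
noncomputable def cubeHom : ↥c.radK →* Multiplicative (ZMod 3) :=
  MonoidHom.mk' (fun x => c.lam ⟨(x : ↥K) ^ 3, c.cube_mem_ker x⟩) fun x y => by
    rw [← map_mul]
    exact congrArg c.lam (Subtype.ext ((c.radK_comm x y).mul_pow 3))

theorem cubeHom_eq_one {x : ↥c.radK} : c.cubeHom x = 1 ↔ (x : ↥K) ^ 3 = 1 := by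
  show c.lam ⟨(x : ↥K) ^ 3, c.cube_mem_ker x⟩ = 1 ↔ _
  rw [MulEquiv.map_eq_one_iff]
  exact ⟨fun h => congrArg Subtype.val h, fun h => Subtype.ext h⟩

theorem cube_ker {z : ↥c.radK} (hz : c.ψ (z : ↥K) = 1) : c.cubeHom z = 1 := by
  rw [cubeHom_eq_one]
  have h : (⟨(z : ↥K), MonoidHom.mem_ker.2 hz⟩ : ↥c.ψ.ker) ^ 3 = 1 := by
    have h' := pow_card_eq_one' (x := (⟨(z : ↥K), MonoidHom.mem_ker.2 hz⟩ : ↥c.ψ.ker))
    rwa [c.card_ker] at h'
  exact congrArg Subtype.val h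

theorem cube_T (a : Fin 4 → ZMod 3) :
    (c.cubeHom (c.T a)).toAdd = ∑ i, a i * (c.cubeHom (c.tb i)).toAdd := by
  simp [T, map_mul, map_pow, Fin.sum_univ_four, toAdd_mul, toAdd_pow, add_assoc]

theorem cube_tb (i : Fin 4) : (c.cubeHom (c.tb i)).toAdd = 0 := by
  refine congrFun (no_linear (fun i => (c.cubeHom (c.tb i)).toAdd) fun s i => ?_) i
  obtain ⟨z, hz, e⟩ := c.cn_tb s i
  have h : c.cubeHom (c.cn s (c.tb i)) = c.cubeHom (c.tb i) := by
    show c.lam _ = c.lam _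
    refine congrArg c.lam (Subtype.ext ?_)
    show (c.nb s * (c.tb i : ↥K) * (c.nb s)⁻¹) ^ 3 = (c.tb i : ↥K) ^ 3
    rw [conj_pow, ← (c.comm_central (MonoidHom.mem_ker.1 (c.cube_mem_ker (c.tb i))) _).eq, mul_inv_cancel_right]
  rw [← h, e, map_mul, c.cube_ker hz, one_mul, cube_T]

theorem radK_cube (x : ↥c.radK) : (x : ↥K) ^ 3 = 1 := by
  obtain ⟨z, a, hz, rfl⟩ := c.decomp x
  rw [← cubeHom_eq_one, map_mul, c.cube_ker hz, one_mul]
  refine Multiplicative.toAdd.injective ?_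
  rw [cube_T, toAdd_one]
  simp [cube_tb]

theorem pre_Er_comm {x y : U F} (hx : x ∈ c.pre Er) (hy : y ∈ c.pre Er) : x * y = y * x := by
  obtain ⟨hx1, hx2⟩ := c.mem_pre.1 hx
  obtain ⟨hy1, hy2⟩ := c.mem_pre.1 hy
  exact congrArg Subtype.val (c.radK_comm ⟨⟨x, hx1⟩, hx2⟩ ⟨⟨y, hy1⟩, hy2⟩).eq

theorem pre_Er_cube {x : U F} (hx : x ∈ c.pre Er) : x ^ 3 = 1 := by
  obtain ⟨hx1, hx2⟩ := c.mem_pre.1 hx
  exact congrArg Subtype.val (c.radK_cube ⟨⟨x, hx1⟩, hx2⟩)

theorem card_pre_Er : Nat.card (c.pre Er) = 243 := by rw [c.card_pre, card_Er]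

/-- The image of a cover under an injective endomorphism. -/
noncomputable def map (f : U F →* U F) (hf : Function.Injective f) : Cover (K.map f) where
  ψ := c.ψ.comp (K.equivMapOfInjective f hf).symm.toMonoidHom
  surj := c.surj.comp (K.equivMapOfInjective f hf).symm.surjective
  card_ker := by
    refine (Nat.card_congr ((K.equivMapOfInjective f hf).symm.toEquiv.subtypeEquiv fun x => ?_)).trans c.card_ker
    exact Iff.rfl
  central := fun x hx => Subgroup.mem_center_iff.2 fun y => (K.equivMapOfInjective f hf).symm.injective (by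
    rw [map_mul, map_mul]
    exact Subgroup.mem_center_iff.1 (c.central (MonoidHom.mem_ker.2 (MonoidHom.mem_ker.1 hx))) _)

theorem mem_pre_map (f : U F →* U F) (hf : Function.Injective f) (H : Subgroup G) {x : U F} :
    f x ∈ (c.map f hf).pre H ↔ x ∈ c.pre H := by
  constructor
  · intro h
    obtain ⟨h1, h2⟩ := (c.map f hf).mem_pre.1 h
    obtain ⟨y, hy, he⟩ := h1
    obtain rfl := hf he
    refine c.mem_pre.2 ⟨hy, ?_⟩
    have e : (K.equivMapOfInjective f hf).symm ⟨f y, Subgroup.mem_map_of_mem f hy⟩ = ⟨y, hy⟩ :=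
      (MulEquiv.symm_apply_eq _).2 (Subtype.ext rfl)
    exact e ▸ h2
  · intro h
    obtain ⟨h1, h2⟩ := c.mem_pre.1 h
    refine (c.map f hf).mem_pre.2 ⟨Subgroup.mem_map_of_mem f h1, ?_⟩
    have e : (K.equivMapOfInjective f hf).symm ⟨f x, Subgroup.mem_map_of_mem f h1⟩ = ⟨x, h1⟩ :=
      (MulEquiv.symm_apply_eq _).2 (Subtype.ext rfl)
    show c.ψ ((K.equivMapOfInjective f hf).symm _) ∈ H
    rw [e]
    exact h2

end Cover

end Cfsg.Agent.U62
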