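import Cfsg.Agent.U62.Group

/-!
# The diagonal subgroup of SU(6,2), and commuting elements of order three

Commuting elements of order three have an orthonormal basis of common eigenvectors.
-/

set_option autoImplicit false

namespace Cfsg.Agent.U62

open Matrix

variable {F : Type} [Field F] [CharP F 2] [Root F]

local notation "hf" => Cfsg.hermForm 6 F 2

omit [CharP F 2] [Root F] in
theorem hf_smul_left (a : F) (u v : Fin 6 → F) : hf (a • u) v = a * hf u v := by
  simp [Cfsg.hermForm, Finset.mul_sum, mul_assoc]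

omit [CharP F 2] [Root F] in
theorem hf_smul_right (a : F) (u v : Fin 6 → F) : hf u (a • v) = a ^ 2 * hf u v := by
  simp only [Cfsg.hermForm, Finset.mul_sum, Pi.smul_apply, smul_eq_mul]
  exact Finset.sum_congr rfl fun i _ => by ring

omit [CharP F 2] [Root F] in
theorem hf_add_left (u v x : Fin 6 → F) : hf (u + v) x = hf u x + hf v x := by
  simp [Cfsg.hermForm, add_mul, Finset.sum_add_distrib]

theorem hf_add_right (u v x : Fin 6 → F) : hf u (v + x) = hf u v + hf u x := by
  simp only [Cfsg.hermForm, Pi.add_apply, ← Finset.sum_add_distrib]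
  exact Finset.sum_congr rfl fun i _ => by rw [add_pow_char, mul_add]

omit [CharP F 2] [Root F] in
theorem hf_zero_left (v : Fin 6 → F) : hf 0 v = 0 := by simp [Cfsg.hermForm]

omit [CharP F 2] [Root F] in
theorem hf_zero_right (v : Fin 6 → F) : hf v 0 = 0 := by simp [Cfsg.hermForm]

omit [CharP F 2] [Root F] in
theorem hf_sum_left {ι : Type} (s : Finset ι) (f : ι → Fin 6 → F) (v : Fin 6 → F) :
    hf (∑ i ∈ s, f i) v = ∑ i ∈ s, hf (f i) v := by
  classical
  induction s using Finset.induction_on with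
  | empty => simp [hf_zero_left]
  | insert a s ha ih => rw [Finset.sum_insert ha, Finset.sum_insert ha, hf_add_left, ih]

omit [CharP F 2] [Root F] in
theorem hf_single (u : Fin 6 → F) (j : Fin 6) : hf u (Pi.single j 1) = u j := by
  rw [Cfsg.hermForm, Finset.sum_eq_single j] <;> simp +contextual

omit [CharP F 2] [Root F] in
theorem hf_mat (x : U F) (u v : Fin 6 → F) : hf (mat x *ᵥ u) (mat x *ᵥ v) = hf u v := x.2 u v

omit [Root F] in
theorem pow_four_eq [Fintype F] (hF : Fintype.card F = 4) (a : F) : a ^ 4 = a := hF ▸ FiniteField.pow_card a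

theorem hf_swap [Fintype F] (hF : Fintype.card F = 4) (u v : Fin 6 → F) : hf v u = hf u v ^ 2 := by
  simp only [Cfsg.hermForm, sum_pow_char]
  refine Finset.sum_congr rfl fun i _ => ?_
  rw [mul_pow, ← pow_mul, pow_four_eq hF]
  ring

omit [Root F] in
theorem norm_eq_one [Fintype F] (hF : Fintype.card F = 4) {u : Fin 6 → F} (hu : hf u u ≠ 0) : hf u u = 1 := by
  have h : hf u u ^ 2 = hf u u := by
    simp only [Cfsg.hermForm, sum_pow_char]
    refine Finset.sum_congr rfl fun i _ => ?_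
    rw [mul_pow, ← pow_mul, pow_four_eq hF]
    ring
  exact mul_left_cancel₀ hu (by rw [← pow_two, h, mul_one])

/-- The eigenvector component of a vector for an element of order three. -/
noncomputable def comp3 (x : U F) (c : F) (v : Fin 6 → F) : Fin 6 → F :=
  v + c • (mat x *ᵥ v) + c ^ 2 • (mat x *ᵥ (mat x *ᵥ v))

theorem mat_mulVec_mul (x y : U F) (v : Fin 6 → F) : mat x *ᵥ (mat y *ᵥ v) = mat (x * y) *ᵥ v := by
  rw [map_mul, Matrix.mulVec_mulVec]

theorem comp3_eigen {x : U F} (hx : x ^ 3 = 1) {c : F} (hc : c ^ 3 = 1) (v : Fin 6 → F) :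
    mat x *ᵥ comp3 x c v = c ^ 2 • comp3 x c v := by
  have h3 : mat x *ᵥ (mat x *ᵥ (mat x *ᵥ v)) = v := by
    rw [mat_mulVec_mul, mat_mulVec_mul, show x * x * x = x ^ 3 by rw [pow_succ, pow_two], hx, map_one,
      Matrix.one_mulVec]
  simp only [comp3, Matrix.mulVec_add, Matrix.mulVec_smul, h3, smul_add, smul_smul]
  rw [show c ^ 2 * c = 1 by rw [← hc]; ring, one_smul, show c ^ 2 * c ^ 2 = c by linear_combination c * hc]
  abel

theorem comp3_sum (x : U F) (v : Fin 6 → F) :
    comp3 x 1 v + comp3 x (Root.w (F := F)) v + comp3 x (Root.w (F := F) + 1) v = v := by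
  have h2 : (2 : F) = 0 := CharTwo.two_eq_zero
  funext i
  simp only [comp3, Pi.add_apply, Pi.smul_apply, smul_eq_mul]
  linear_combination (v i + (Root.w (F := F) + 1) * (mat x *ᵥ v) i
    + (Root.w (F := F) ^ 2 + Root.w (F := F) + 1) * (mat x *ᵥ (mat x *ᵥ v)) i) * h2

theorem hf_eigen_zero {x : U F} {μ ν : F} (hν : ν ^ 3 = 1) (hne : μ ≠ ν) {u v : Fin 6 → F}
    (hu : mat x *ᵥ u = μ • u) (hv : mat x *ᵥ v = ν • v) : hf u v = 0 := by
  have h := hf_mat x u v
  rw [hu, hv, hf_smul_left, hf_smul_right, ← mul_assoc] at h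
  by_contra hn
  have h1 : μ * ν ^ 2 = 1 := mul_right_cancel₀ hn (by rw [one_mul]; exact h)
  exact hne (by linear_combination ν * h1 - μ * hν)

theorem exists_comp (hF' : ∀ a : F, a ≠ 0 → a ^ 3 = 1) {x : U F} (hx : x ^ 3 = 1) {v : Fin 6 → F} (hv : hf v v ≠ 0) :
    ∃ c : F, c ^ 3 = 1 ∧ hf (comp3 x c v) (comp3 x c v) ≠ 0 := by
  by_contra hn
  push Not at hn
  have hw1 : Root.w (F := F) + 1 ≠ 0 := fun h => by
    have hw := Root.hw (F := F)
    have h2 : (2 : F) = 0 := CharTwo.two_eq_zero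
    exact one_ne_zero (show (1 : F) = 0 by linear_combination hw - Root.w (F := F) * h)
  have hd : ∀ {a b : F}, a ≠ 0 → b ≠ 0 → a ≠ b → hf (comp3 x a v) (comp3 x b v) = 0 := fun {a b} ha hb hab =>
    hf_eigen_zero (μ := a ^ 2) (ν := b ^ 2) (by rw [← pow_mul, show 2 * 3 = 3 * 2 from rfl, pow_mul, hF' b hb, one_pow])
      (fun h => hab (frobenius_inj F 2 h))
      (comp3_eigen hx (hF' a ha) v) (comp3_eigen hx (hF' b hb) v)
  have h1 : (1 : F) ≠ Root.w (F := F) := fun h => by
    have hw := Root.hw (F := F)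
    rw [← h] at hw
    have h2 : (2 : F) = 0 := CharTwo.two_eq_zero
    exact one_ne_zero (show (1 : F) = 0 by linear_combination hw - h2)
  have h2' : (1 : F) ≠ Root.w (F := F) + 1 := fun h => w_ne_zero (F := F) (by linear_combination -h)
  have h3 : Root.w (F := F) ≠ Root.w (F := F) + 1 := fun h => one_ne_zero (show (1 : F) = 0 by linear_combination -h)
  refine hv ?_
  conv_lhs => rw [← comp3_sum x v]
  simp only [hf_add_left, hf_add_right, hn 1 (one_pow 3), hn _ (cube_w), hn _ (hF' _ hw1),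
    hd one_ne_zero w_ne_zero h1, hd w_ne_zero one_ne_zero h1.symm, hd one_ne_zero hw1 h2',
    hd hw1 one_ne_zero h2'.symm, hd w_ne_zero hw1 h3, hd hw1 w_ne_zero h3.symm, add_zero]

/-- A vector is an eigenvector of an element. -/
def IsEigen (x : U F) (v : Fin 6 → F) : Prop := ∃ μ : F, μ ^ 3 = 1 ∧ mat x *ᵥ v = μ • v

theorem exists_common_vec (hF' : ∀ a : F, a ≠ 0 → a ^ 3 = 1) (P : Subgroup (U F))
    (hc : ∀ x ∈ P, ∀ y ∈ P, x * y = y * x) (hcube : ∀ x ∈ P, x ^ 3 = 1) {m : ℕ} (b : Fin m → Fin 6 → F)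
    (hb : ∀ i, ∀ x ∈ P, IsEigen x (b i)) :
    ∀ (l : List (U F)), (∀ x ∈ l, x ∈ P) → ∀ v, hf v v ≠ 0 → (∀ i, hf v (b i) = 0) →
      ∃ u, hf u u ≠ 0 ∧ (∀ i, hf u (b i) = 0) ∧ ∀ x ∈ l, IsEigen x u
  | [], _, v, hv, hvb => ⟨v, hv, hvb, by simp⟩
  | x :: l, hl, v, hv, hvb => by
    obtain ⟨u, hu, hub, hue⟩ := exists_common_vec hF' P hc hcube b hb l (fun y hy => hl y (List.mem_cons_of_mem _ hy)) v hv hvb
    have hxP := hl x List.mem_cons_self
    obtain ⟨c, hc3, hcn⟩ := exists_comp hF' (hcube x hxP) hu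
    have hstep : ∀ z, (∀ i, hf z (b i) = 0) → ∀ i, hf (mat x *ᵥ z) (b i) = 0 := fun z hz i => by
      obtain ⟨μ, hμ, he⟩ := hb i x hxP
      have h := hf_mat x z (b i)
      rw [he, hf_smul_right, hz i] at h
      exact (mul_eq_zero.1 h).resolve_left (pow_ne_zero _ (fun h0 => by rw [h0] at hμ; norm_num at hμ))
    refine ⟨comp3 x c u, hcn, fun i => ?_, ?_⟩
    · simp only [comp3, hf_add_left, hf_smul_left, hub i, hstep u hub i, hstep _ (hstep u hub) i, mul_zero,
        add_zero]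
    · intro y hy
      rcases List.mem_cons.1 hy with rfl | hy
      · exact ⟨c ^ 2, by rw [← pow_mul, show 2 * 3 = 3 * 2 from rfl, pow_mul, hc3, one_pow],
          comp3_eigen (hcube y hxP) hc3 u⟩
      · obtain ⟨μ, hμ, he⟩ := hue y hy
        have hyP := hl y (List.mem_cons_of_mem _ hy)
        have hcomm : ∀ z, mat y *ᵥ (mat x *ᵥ z) = mat x *ᵥ (mat y *ᵥ z) := fun z => by
          rw [mat_mulVec_mul, mat_mulVec_mul, hc x hxP y hyP]
        refine ⟨μ, hμ, ?_⟩
        simp only [comp3, Matrix.mulVec_add, Matrix.mulVec_smul, hcomm, he, smul_add, smul_comm μ]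

theorem exists_aniso [Fintype F] (hF : Fintype.card F = 4) {m : ℕ} (hm : m < 6) (b : Fin m → Fin 6 → F)
    (horth : ∀ i j, hf (b i) (b j) = if i = j then 1 else 0) :
    ∃ v, hf v v ≠ 0 ∧ ∀ i, hf v (b i) = 0 := by
  by_contra hn
  push Not at hn
  let L : (Fin 6 → F) →ₗ[F] (Fin m → F) :=
    { toFun := fun v i => hf v (b i)
      map_add' := fun u v => funext fun i => hf_add_left _ _ _
      map_smul' := fun a v => funext fun i => hf_smul_left _ _ _ }
  have hker : L.ker ≠ ⊥ := fun h => by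
    have := LinearMap.finrank_le_finrank_of_injective (LinearMap.ker_eq_bot.1 h)
    simp at this
    omega
  obtain ⟨z, hz, hz0⟩ := (Submodule.ne_bot_iff _).1 hker
  have hzb : ∀ i, hf z (b i) = 0 := fun i => congrFun (LinearMap.mem_ker.1 hz) i
  have hiso : ∀ v, (∀ i, hf v (b i) = 0) → hf v v = 0 := fun v hv => by
    by_contra h
    obtain ⟨i, hi⟩ := hn v h
    exact hi (hv i)
  have hperp : ∀ u v, (∀ i, hf u (b i) = 0) → (∀ i, hf v (b i) = 0) → hf u v = 0 := by
    intro u v hu hv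
    have hwz := Root.hw (F := F)
    have h2 : (2 : F) = 0 := CharTwo.two_eq_zero
    have key : ∀ a : F, a ^ 2 * hf u v + a * hf v u = 0 := fun a => by
      have h := hiso (u + a • v) fun i => by rw [hf_add_left, hf_smul_left, hu i, hv i, mul_zero, add_zero]
      simp only [hf_add_left, hf_add_right, hf_smul_left, hf_smul_right, hiso u hu, hiso v hv] at h
      linear_combination h
    have k1 := key 1
    have k2 := key (Root.w (F := F))
    linear_combination (Root.w (F := F) + 1) * hf u v * h2 + k2 - Root.w (F := F) * k1 - hf u v * hwz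
  refine hz0 (funext fun j => ?_)
  let e : Fin 6 → F := Pi.single j 1
  let v' := e + ∑ i, hf e (b i) • b i
  have hv' : ∀ k, hf v' (b k) = 0 := fun k => by
    rw [hf_add_left, hf_sum_left]
    simp only [hf_smul_left, horth, mul_ite, mul_one, mul_zero, Finset.sum_ite_eq', Finset.mem_univ, if_true]
    exact CharTwo.add_self_eq_zero _
  have h := hperp z v' hzb hv'
  rw [hf_swap hF, sq_eq_zero_iff, hf_add_left, hf_sum_left, Finset.sum_eq_zero (fun i _ => by
    rw [hf_smul_left, hf_swap hF z (b i), hzb i]; simp), add_zero, hf_swap hF, hf_single, sq_eq_zero_iff] at h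
  exact h

theorem exists_eigen_basis [Fintype F] (hF : Fintype.card F = 4) (P : Subgroup (U F))
    (hc : ∀ x ∈ P, ∀ y ∈ P, x * y = y * x) (hcube : ∀ x ∈ P, x ^ 3 = 1) :
    ∀ m, m ≤ 6 → ∃ b : Fin m → Fin 6 → F, (∀ i j, hf (b i) (b j) = if i = j then 1 else 0) ∧
      ∀ i, ∀ x ∈ P, IsEigen x (b i)
  | 0, _ => ⟨fun i => i.elim0, fun i => i.elim0, fun i => i.elim0⟩
  | m + 1, hm => by
    obtain ⟨b, hb, hbe⟩ := exists_eigen_basis hF P hc hcube m (by omega)
    obtain ⟨v, hv, hvb⟩ := exists_aniso hF (by omega) b hb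
    have hF' : ∀ a : F, a ≠ 0 → a ^ 3 = 1 := fun a ha =>
      mul_left_cancel₀ ha (by rw [mul_one, ← pow_succ', pow_four_eq hF])
    classical
    haveI : Fintype ↥P := Fintype.ofFinite _
    obtain ⟨u, hu, hub, hue⟩ := exists_common_vec hF' P hc hcube b hbe
      ((Finset.univ : Finset ↥P).toList.map Subtype.val) (fun x hx => by
        obtain ⟨y, -, rfl⟩ := List.mem_map.1 hx
        exact y.2) v hv hvb
    have hu1 := norm_eq_one hF hu
    refine ⟨Fin.snoc b u, fun i j => ?_, fun i x hx => ?_⟩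
    · induction i using Fin.lastCases with
      | last =>
        induction j using Fin.lastCases with
        | last => simp [hu1]
        | cast j => simp [hub j, Fin.exists_iff, (Fin.castSucc_ne_last j).symm]
      | cast i =>
        induction j using Fin.lastCases with
        | last => simp [hf_swap hF u (b i), hub i, Fin.castSucc_ne_last i]
        | cast j => simp [hb]
    · induction i using Fin.lastCases with
      | last =>
        rw [Fin.snoc_last]
        exact hue x (List.mem_map.2 ⟨⟨x, hx⟩, by simp, rfl⟩)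
      | cast i => rw [Fin.snoc_castSucc]; exact hbe i x hx

variable [Fintype F]

theorem adj_diagonal (d : Fin 6 → F) : adj (Matrix.diagonal d) = Matrix.diagonal fun i => d i ^ 2 := by
  rw [adj, Matrix.diagonal_map (by simp), Matrix.diagonal_transpose]

theorem exists_diagonalizer (hF : Fintype.card F = 4) (P : Subgroup (U F))
    (hc : ∀ x ∈ P, ∀ y ∈ P, x * y = y * x) (hcube : ∀ x ∈ P, x ^ 3 = 1) :
    ∃ g : U F, ∀ x ∈ P, g⁻¹ * x * g ∈ Dg := by
  obtain ⟨b, hb, hbe⟩ := exists_eigen_basis hF P hc hcube 6 le_rfl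
  let M : Matrix (Fin 6) (Fin 6) F := Matrix.of fun k j => b j k
  have hM : adj M * M = 1 := by
    ext i j
    rw [Matrix.one_apply, show (if i = j then (1 : F) else 0) = if j = i then 1 else 0 by simp [eq_comm], ← hb j i]
    simp only [adj, Matrix.mul_apply, Matrix.transpose_apply, Matrix.map_apply, M, Matrix.of_apply, Cfsg.hermForm]
    exact Finset.sum_congr rfl fun k _ => mul_comm _ _
  have hd0 : M.det ≠ 0 := fun h => by
    have := congrArg Matrix.det hM
    rw [Matrix.det_mul, h, mul_zero, Matrix.det_one] at this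
    exact zero_ne_one this
  let a : Fin 6 → F := fun i => if i = 0 then M.det⁻¹ else 1
  have ha : ∀ i, a i ^ 2 * a i = 1 := fun i => by
    simp only [a]
    split_ifs
    · have h := congrArg Matrix.det hM
      rw [Matrix.det_mul, det_adj, Matrix.det_one] at h
      field_simp
      linear_combination (-1 : F) * h
    · ring
  let M' := M * Matrix.diagonal a
  have hM' : adj M' * M' = 1 := by
    calc adj M' * M' = adj (Matrix.diagonal a) * (adj M * M) * Matrix.diagonal a := by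
          simp only [M', adj_mul, mul_assoc]
      _ = 1 := by rw [hM, mul_one, adj_diagonal, Matrix.diagonal_mul_diagonal]; simp [ha]
  have hd : M'.det = 1 := by
    simp only [M', Matrix.det_mul, Matrix.det_diagonal, a, Fin.prod_univ_six]
    simpa using mul_inv_cancel₀ hd0
  refine ⟨mk M' hM' hd, fun x hx => ?_⟩
  choose μ hμ he using fun i => hbe i x hx
  have hXM : mat x * M = M * Matrix.diagonal μ := by
    ext k j
    rw [Matrix.mul_diagonal]
    have := congrFun (he j) k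
    simpa [Matrix.mul_apply, Matrix.mulVec, dotProduct, M, mul_comm] using this
  have hXM' : mat x * M' = M' * Matrix.diagonal μ := by
    simp only [M', ← mul_assoc, hXM]
    simp only [mul_assoc, Matrix.diagonal_mul_diagonal]
    congr 2
    funext i
    ring
  refine mem_Dg.2 fun i j hij => ?_
  rw [map_mul, map_mul, mat_inv, mat_mk, mul_assoc, hXM', ← mul_assoc, hM', one_mul,
    Matrix.diagonal_apply_ne _ hij]

theorem dcoef_mul {x y : U F} (hx : x ∈ Dg) (hy : y ∈ Dg) (i : Fin 6) :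
    dcoef (x * y) i = dcoef x i * dcoef y i := by
  rw [dcoef, map_mul, mat_of_mem_Dg hx, mat_of_mem_Dg hy, Matrix.diagonal_mul_diagonal, Matrix.diagonal_apply_eq]

theorem dcoef_one (i : Fin 6) : dcoef (1 : U F) i = 1 := by simp [dcoef]

theorem dcoef_pow {x : U F} (hx : x ∈ Dg) (i : Fin 6) : ∀ n : ℕ, dcoef (x ^ n) i = dcoef x i ^ n
  | 0 => by rw [pow_zero, pow_zero, dcoef_one]
  | n + 1 => by rw [pow_succ, pow_succ, dcoef_mul (pow_mem hx n) hx, dcoef_pow hx i n]

theorem Dg_ext {x y : U F} (hx : x ∈ Dg) (hy : y ∈ Dg) (h : ∀ i, dcoef x i = dcoef y i) : x = y :=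
  mat_injective (by rw [mat_of_mem_Dg hx, mat_of_mem_Dg hy, funext h])

/-- The diagonal element with five exponents. -/
noncomputable def dN (n : Fin 5 → Fin 3) : U F :=
  dU 0 ^ (n 0 : ℕ) * (dU 1 ^ (n 1 : ℕ) * (dU 2 ^ (n 2 : ℕ) * (dU 3 ^ (n 3 : ℕ) * dU 4 ^ (n 4 : ℕ))))

theorem dN_mem_K0 (n : Fin 5 → Fin 3) : (dN n : U F) ∈ K0 :=
  mul_mem (pow_mem (dU_mem_K0 (by norm_num)) _) (mul_mem (pow_mem (dU_mem_K0 (by norm_num)) _)
    (mul_mem (pow_mem (dU_mem_K0 (by norm_num)) _)
      (mul_mem (pow_mem (dU_mem_K0 (by norm_num)) _) (pow_mem (dU_mem_K0 (by norm_num)) _))))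

theorem dN_mem_Dg (n : Fin 5 → Fin 3) : (dN n : U F) ∈ Dg :=
  mul_mem (pow_mem (dU_mem_Dg (by norm_num)) _) (mul_mem (pow_mem (dU_mem_Dg (by norm_num)) _)
    (mul_mem (pow_mem (dU_mem_Dg (by norm_num)) _)
      (mul_mem (pow_mem (dU_mem_Dg (by norm_num)) _) (pow_mem (dU_mem_Dg (by norm_num)) _))))

theorem dig_diag : ∀ k : Fin 5, ∀ i : Fin 6,
    dig3 (diagExp k) i = if (i : ℕ) = k then 1 else if (i : ℕ) = k + 1 then 2 else 0 := by decide +kernel

/-- The exponent of an entry of that element. -/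
def dExp (n : Fin 5 → Fin 3) (i : Fin 6) : ℕ :=
  match i with
  | 0 => n 0
  | 1 => 2 * n 0 + n 1
  | 2 => 2 * n 1 + n 2
  | 3 => 2 * n 2 + n 3
  | 4 => 2 * n 3 + n 4
  | 5 => 2 * n 4

theorem dcoef_dN (n : Fin 5 → Fin 3) (i : Fin 6) : dcoef (dN n : U F) i = Root.w (F := F) ^ dExp n i := by
  have h : ∀ k < 5, (dU k : U F) ∈ Dg := fun k hk => dU_mem_Dg hk
  rw [dN, dcoef_mul (pow_mem (h 0 (by norm_num)) _) (mul_mem (pow_mem (h 1 (by norm_num)) _)
      (mul_mem (pow_mem (h 2 (by norm_num)) _) (mul_mem (pow_mem (h 3 (by norm_num)) _) (pow_mem (h 4 (by norm_num)) _)))),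
    dcoef_mul (pow_mem (h 1 (by norm_num)) _)
      (mul_mem (pow_mem (h 2 (by norm_num)) _) (mul_mem (pow_mem (h 3 (by norm_num)) _) (pow_mem (h 4 (by norm_num)) _))),
    dcoef_mul (pow_mem (h 2 (by norm_num)) _) (mul_mem (pow_mem (h 3 (by norm_num)) _) (pow_mem (h 4 (by norm_num)) _)),
    dcoef_mul (pow_mem (h 3 (by norm_num)) _) (pow_mem (h 4 (by norm_num)) _)]
  simp only [dcoef_pow (h 0 (by norm_num)), dcoef_pow (h 1 (by norm_num)), dcoef_pow (h 2 (by norm_num)),
    dcoef_pow (h 3 (by norm_num)), dcoef_pow (h 4 (by norm_num)), dcoef_dU (show (0 : ℕ) < 5 by norm_num),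
    dcoef_dU (show (1 : ℕ) < 5 by norm_num), dcoef_dU (show (2 : ℕ) < 5 by norm_num),
    dcoef_dU (show (3 : ℕ) < 5 by norm_num), dcoef_dU (show (4 : ℕ) < 5 by norm_num), ← pow_mul, ← pow_add]
  refine w_pow_eq_iff.2 (congrArg (· % 3) ?_)
  clear h
  have h0 := dig_diag 0 i; have h1 := dig_diag 1 i; have h2 := dig_diag 2 i; have h3 := dig_diag 3 i
  have h4 := dig_diag 4 i
  simp only [Fin.val_zero, Fin.val_one, Fin.val_two, show ((3 : Fin 5) : ℕ) = 3 from rfl,
    show ((4 : Fin 5) : ℕ) = 4 from rfl] at h0 h1 h2 h3 h4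
  rw [h0, h1, h2, h3, h4]
  fin_cases i <;> norm_num [dExp] <;> omega

theorem dExp_inj : ∀ n m : Fin 5 → Fin 3, (∀ i, dExp n i % 3 = dExp m i % 3) → n = m := by
  intro n m h
  have h0 := h 0; have h1 := h 1; have h2 := h 2; have h3 := h 3; have h4 := h 4
  simp only [dExp] at h0 h1 h2 h3 h4
  have := (n 0).2; have := (m 0).2; have := (n 1).2; have := (m 1).2; have := (n 2).2; have := (m 2).2
  have := (n 3).2; have := (m 3).2; have := (n 4).2; have := (m 4).2
  funext k
  fin_cases k <;> apply Fin.ext <;> simp only [Fin.zero_eta, Fin.mk_one, Fin.reduceFinMk] <;> omega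

theorem exists_dN (hF : Fintype.card F = 4) {x : U F} (hx : x ∈ Dg) : ∃ n, dN n = x := by
  obtain ⟨t, -, hs, ht⟩ := exists_code hF hx
  have hs' : ((t 0 : ℕ) + t 1 + t 2 + t 3 + t 4 + t 5) % 3 = 0 := by
    change (dig3 (enc t) (0 : Fin 6) + (dig3 (enc t) (1 : Fin 6) + (dig3 (enc t) (2 : Fin 6) +
      (dig3 (enc t) (3 : Fin 6) + (dig3 (enc t) (4 : Fin 6) + dig3 (enc t) (5 : Fin 6)))))) % 3 = 0 at hs
    simp only [dig3_enc] at hs
    omega
  refine ⟨![t 0, t 0 + t 1, t 0 + t 1 + t 2, t 0 + t 1 + t 2 + t 3, t 0 + t 1 + t 2 + t 3 + t 4],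
    Dg_ext (dN_mem_Dg _) hx fun i => ?_⟩
  rw [dcoef_dN, ht, w_pow_eq_iff]
  have := (t 0).2; have := (t 1).2; have := (t 2).2; have := (t 3).2; have := (t 4).2; have := (t 5).2
  fin_cases i <;> simp [dExp, Fin.val_add] <;> omega

theorem Dg_le_K0 (hF : Fintype.card F = 4) : (Dg : Subgroup (U F)) ≤ K0 := fun x hx => by
  obtain ⟨n, rfl⟩ := exists_dN hF hx
  exact dN_mem_K0 n

theorem card_Dg (hF : Fintype.card F = 4) : Nat.card (Dg : Subgroup (U F)) = 243 := by
  let f : (Fin 5 → Fin 3) → ↥(Dg : Subgroup (U F)) := fun n => ⟨dN n, dN_mem_Dg n⟩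
  have hbij : Function.Bijective f := ⟨fun n m h => dExp_inj n m fun i => by
      rw [← w_pow_eq_iff (F := F), ← dcoef_dN, ← dcoef_dN]
      exact congrArg (fun z : ↥(Dg : Subgroup (U F)) => dcoef z.1 i) h,
    fun x => by
      obtain ⟨n, hn⟩ := exists_dN hF x.2
      exact ⟨n, Subtype.ext hn⟩⟩
  rw [← Nat.card_congr (Equiv.ofBijective f hbij), Nat.card_eq_fintype_card, Fintype.card_fun, Fintype.card_fin,
    Fintype.card_fin]
  rfl

theorem exists_conj_Dg (hF : Fintype.card F = 4) (P : Subgroup (U F))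
    (hc : ∀ x ∈ P, ∀ y ∈ P, x * y = y * x) (hcube : ∀ x ∈ P, x ^ 3 = 1) (hcard : Nat.card P = 243) :
    ∃ g : U F, P.map (MulAut.conj g).toMonoidHom = Dg := by
  obtain ⟨g, hg⟩ := exists_diagonalizer hF P hc hcube
  refine ⟨g⁻¹, Subgroup.eq_of_le_of_card_ge ?_ ?_⟩
  · rintro _ ⟨x, hx, rfl⟩
    simpa [MulAut.conj_apply] using hg x hx
  · rw [card_Dg hF, Subgroup.card_map_of_injective (MulEquiv.injective _), hcard]

end Cfsg.Agent.U62
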