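import Cfsg.Agent.U62.Std
import Cfsg.Agent.U62.Colour
import Cfsg.Agent.U62.CheckLine
import Cfsg.Agent.U62.CheckWit

/-!
# The second frame of a standard cover

It consists of three lines on each of two complementary sets of three places, so it lies in the orbit
of one of the three twisted copies.
-/

set_option autoImplicit false

namespace Cfsg.Agent.U62

open Matrix Cfsg.Agent.Compute

variable {F : Type} [Field F] [CharP F 2] [Root F] [Fintype F]

theorem Dg_cube (hF : Fintype.card F = 4) {x : U F} (hx : x ∈ Dg) : x ^ 3 = 1 := by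
  refine Dg_ext (pow_mem hx 3) (one_mem _) fun i => ?_
  obtain ⟨t, ht⟩ := exists_exp hF (dcoef_ne_zero hx i)
  rw [dcoef_pow hx, dcoef_one, ht, ← pow_mul, ← pow_zero (Root.w (F := F)), w_pow_eq_iff]
  omega

theorem Dg_comm {x y : U F} (hx : x ∈ Dg) (hy : y ∈ Dg) : x * y = y * x :=
  Dg_ext (mul_mem hx hy) (mul_mem hy hx) fun i => by rw [dcoef_mul hx hy, dcoef_mul hy hx, mul_comm]

theorem ker_πM_mem {y : ↥(Mon : Subgroup (U F))} (h : πM y = 1) : (y : U F) ∈ Dg :=
  Subgroup.mem_map_of_mem _ (MonoidHom.mem_ker.2 h)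

theorem tm_colC_apply (m e : ℕ) (i : Fin 6) :
    (tm (colC m e) : Matrix (Fin 6) (Fin 6) F) i 0 =
      if bitB m i = true then val (Root.w (F := F)) (1 + dig3 e i) else 0 := by
  rw [tm, toMat_apply, colC, getE_mkC (fun a b _ _ => cond_lt (a := Nat.add 1 (dig3 e a))
    (show 1 + dig3 e a < 4 by have := dig3_lt e a; omega) _) i.2 (0 : Fin 6).2]
  cases bitB m i <;> simp [val]

theorem suppB_enc (m : ℕ) (t : Fin 6 → Fin 3) (h : ∀ i : Fin 6, bitB m i = false → t i = 0) :
    suppB m (enc t) = true := allBelow_eq_true.mpr fun i hi => by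
  rw [Bool.or_eq_true]
  cases hb : bitB m i
  · refine Or.inr ?_
    rw [Nat.beq_eq, show i = ((⟨i, hi⟩ : Fin 6) : ℕ) from rfl, dig3_enc, h ⟨i, hi⟩ hb]
    rfl
  · exact Or.inl rfl

theorem wit_all (t : ℕ) (ht : t < 180) : witOK t = true := by
  rcases Nat.lt_or_ge t 60 with h1 | h1
  · exact allBelow_eq_true.mp wit_a t h1
  rcases Nat.lt_or_ge t 120 with h2 | h2
  · have := allBelow_eq_true.mp wit_b (t - 60) (by omega)
    rwa [show Nat.add (t - 60) 60 = t from Nat.sub_add_cancel h1] at this
  have := allBelow_eq_true.mp wit_c (t - 120) (by omega)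
  rwa [show Nat.add (t - 120) 120 = t from Nat.sub_add_cancel h2] at this

open scoped _root_.Classical in
theorem odd_of_norm (hF : Fintype.card F = 4) (g : U F) (j : Fin 6) :
    Odd (Finset.univ.filter fun i => mat g i j ≠ 0).card := by
  have h := congrFun (congrFun (adj_mat_mul g) j) j
  rw [Matrix.one_apply_eq, Matrix.mul_apply] at h
  have hterm : ∀ i, adj (mat g) j i * mat g i j = if mat g i j ≠ 0 then 1 else 0 := fun i => by
    show mat g i j ^ 2 * mat g i j = _
    by_cases h0 : mat g i j = 0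
    · simp [h0]
    · obtain ⟨t, ht⟩ := exists_exp hF h0
      rw [if_pos h0, ← pow_succ, ht, ← pow_mul, ← pow_zero (Root.w (F := F)), w_pow_eq_iff]
      omega
  rw [Finset.sum_congr rfl fun i _ => hterm i, Finset.sum_boole] at h
  rw [← Nat.not_even_iff_odd]
  intro he
  obtain ⟨k, hk⟩ := he
  rw [hk, Nat.cast_add, CharTwo.add_self_eq_zero] at h
  exact zero_ne_one h

omit [Root F] in
theorem support_class_le {g : U F} {tt tu : Fin 6 → Fin 3} (hsupp : ∀ i j, mat g i j ≠ 0 → tt i = tu j)
    (c : Fin 3) : classSize tu c ≤ classSize tt c := by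
  classical
  let L : ({j // tu j = c} → F) →ₗ[F] ({i // tt i = c} → F) :=
    { toFun := fun v i => ∑ j, mat g i.1 j.1 * v j
      map_add' := fun v v' => funext fun i => by simp [mul_add, Finset.sum_add_distrib]
      map_smul' := fun a v => funext fun i => by simp [Finset.mul_sum, mul_left_comm] }
  have hinj : Function.Injective L := by
    rw [injective_iff_map_eq_zero]
    intro v hv
    let w : Fin 6 → F := fun j => if h : tu j = c then v ⟨j, h⟩ else 0
    have hw : mat g *ᵥ w = 0 := by
      funext i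
      rw [Pi.zero_apply, Matrix.mulVec, dotProduct]
      by_cases hi : tt i = c
      · have h0 := congrFun hv ⟨i, hi⟩
        change ∑ j : {j // tu j = c}, mat g i j.1 * v j = 0 at h0
        rw [← Finset.sum_filter_add_sum_filter_not Finset.univ (fun j => tu j = c),
          Finset.sum_eq_zero (s := Finset.univ.filter fun j => ¬tu j = c) (fun j hj => by
            simp [w, (Finset.mem_filter.1 hj).2]), add_zero]
        rw [← h0, Finset.sum_subtype (p := fun j => tu j = c) (Finset.univ.filter fun j => tu j = c) (fun j => by simp)]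
        exact Finset.sum_congr rfl fun j _ => by simp [w, j.2]
      · refine Finset.sum_eq_zero fun j _ => ?_
        by_cases hj : tu j = c
        · rw [show mat g i j = 0 from by_contra fun h => hi ((hsupp i j h).trans hj), zero_mul]
        · simp [w, hj]
    have hz : w = 0 := by
      have := congrArg (fun u => adj (mat g) *ᵥ u) hw
      simpa [Matrix.mulVec_mulVec, adj_mat_mul] using this
    funext j
    have := congrFun hz j.1
    simpa [w, j.2] using this
  have := LinearMap.finrank_le_finrank_of_injective hinj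
  simpa [classSize, Module.finrank_fintype_fun_eq_card, Fintype.card_subtype] using this

namespace Cover

variable {K : Subgroup (U F)} (c : Cover K) (hD : c.pre Er = Dg)

include hD

theorem column_classes (hF : Fintype.card F = 4) :
    ∃ tt : Fin 6 → Fin 3, (∃ i, tt i ≠ tt 0) ∧ (∀ k, classSize tt k = 0 ∨ classSize tt k = 3) ∧
      ∀ j, ∃ i0, ∀ i, mat (c.sig : U F) i j ≠ 0 ↔ tt i = tt i0 := by
  classical
  set σ := (c.sig : U F) with hσ
  obtain ⟨t, htD, huD, htn⟩ := c.exists_nonscalar hD hF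
  obtain ⟨tt, -, hts, htt⟩ := exists_code hF htD
  obtain ⟨tu, -, hus, htu⟩ := exists_code hF huD
  have hsupp : ∀ i j, mat σ i j ≠ 0 → tt i = tu j := by
    intro i j h
    have he : mat t * mat σ = mat σ * mat (σ⁻¹ * t * σ) := by
      rw [← map_mul, ← map_mul]
      congr 1
      group
    have he' := congrFun (congrFun he i) j
    rw [mat_of_mem_Dg htD, mat_of_mem_Dg huD, Matrix.diagonal_mul, Matrix.mul_diagonal] at he'
    have h2 := mul_right_cancel₀ h (he'.trans (mul_comm _ _))
    rw [htt, htu, w_pow_eq_iff] at h2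
    exact Fin.ext (by have := (tt i).2; have := (tu j).2; omega)
  have hne : ∃ i, tt i ≠ tt 0 := by
    by_contra h
    push Not at h
    exact htn fun i => by rw [htt, htt, h i]
  set D1 := (Dg : Subgroup (U F)) ⊓ (Mon : Subgroup (U F)).map (MulAut.conj σ).toMonoidHom
  have hmem : ∀ x : ↥D1, σ⁻¹ * (x : U F) * σ ∈ Mon := fun x =>
    (mem_conj_map_iff _ _ _).1 (Subgroup.mem_inf.1 x.2).2
  let f : ↥D1 →* Equiv.Perm (Fin 6) :=
    (πM : ↥(Mon : Subgroup (U F)) →* _).comp (MonoidHom.mk' (fun x => ⟨σ⁻¹ * (x : U F) * σ, hmem x⟩)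
      fun x y => Subtype.ext (by simp [mul_assoc]))
  have hker : Nat.card f.ker ≤ 9 := by
    refine le_trans ?_ (c.inter_card hD)
    have hk : ∀ x : ↥f.ker, ((x : ↥D1) : U F) ∈ (Dg : Subgroup (U F)) ⊓
        (Dg : Subgroup (U F)).map (MulAut.conj σ).toMonoidHom := fun x => Subgroup.mem_inf.2
      ⟨(Subgroup.mem_inf.1 x.1.2).1, (mem_conj_map_iff _ _ _).2
        (ker_πM_mem (y := ⟨σ⁻¹ * ((x : ↥D1) : U F) * σ, hmem x⟩) (MonoidHom.mem_ker.1 x.2))⟩
    exact Nat.card_le_card_of_injective (fun x => ⟨_, hk x⟩) fun x y h => Subtype.ext (Subtype.ext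
      (Subtype.mk.inj h))
  set I := f.range
  have hI : ∀ p ∈ I, p ^ 3 = 1 := by
    rintro _ ⟨x, rfl⟩
    rw [← map_pow, show x ^ 3 = 1 from Subtype.ext (Dg_cube hF (Subgroup.mem_inf.1 x.2).1), map_one]
  have h9 : 9 ∣ Nat.card I := by
    refine nine_dvd_card hI ?_
    have h := f.ker.card_mul_index
    rw [Subgroup.index_ker] at h
    have h81 : 81 ≤ Nat.card D1 := c.moving_card hD
    rw [← h] at h81
    by_contra hlt
    push Not at hlt
    have h27 : Nat.card f.ker * Nat.card f.range ≤ 9 * 3 :=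
      Nat.mul_le_mul hker (Nat.le_of_lt_succ hlt)
    omega
  have hinv : ∀ p ∈ I, ∀ j, tu (p j) = tu j := by
    rintro _ ⟨x, rfl⟩ j
    set y := σ⁻¹ * (x : U F) * σ
    have he : mat (σ⁻¹ * t * σ) * mat y = mat y * mat (σ⁻¹ * t * σ) := by
      rw [← map_mul, ← map_mul]
      congr 1
      calc σ⁻¹ * t * σ * (σ⁻¹ * (x : U F) * σ) = σ⁻¹ * (t * x) * σ := by group
        _ = σ⁻¹ * (x * t) * σ := by rw [Dg_comm htD (Subgroup.mem_inf.1 x.2).1]
        _ = _ := by simp only [y, mul_assoc, mul_inv_cancel_left]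
    have he' := congrFun (congrFun he (place y j)) j
    rw [mat_of_mem_Dg huD, Matrix.diagonal_mul, Matrix.mul_diagonal] at he'
    have h2 := mul_right_cancel₀ (place_spec y j) (he'.trans (mul_comm _ _))
    rw [htu, htu, w_pow_eq_iff] at h2
    show tu (place y j) = tu j
    exact Fin.ext (by have := (tu (place y j)).2; have := (tu j).2; omega)
  have hsum : ∀ s : Fin 6 → Fin 3, expSum (enc s) = 0 → ((s 0 : ℕ) + s 1 + s 2 + s 3 + s 4 + s 5) % 3 = 0 := by
    intro s hs
    change (dig3 (enc s) (0 : Fin 6) + (dig3 (enc s) (1 : Fin 6) + (dig3 (enc s) (2 : Fin 6) +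
      (dig3 (enc s) (3 : Fin 6) + (dig3 (enc s) (4 : Fin 6) + dig3 (enc s) (5 : Fin 6)))))) % 3 = 0 at hs
    simp only [dig3_enc] at hs
    omega
  have hnu : ∃ j, tu j ≠ tu 0 := by
    obtain ⟨i, hi⟩ := hne
    by_contra h
    push Not at h
    obtain ⟨j, hj⟩ := exists_ne_row σ i
    obtain ⟨j', hj'⟩ := exists_ne_row σ 0
    exact hi (by rw [hsupp i j hj, hsupp 0 j' hj', h j, h j'])
  have hcu := class_three tu (hsum tu hus) hnu h9 hinv
  have hct : ∀ k, classSize tt k = classSize tu k := by
    have htot : ∀ s : Fin 6 → Fin 3, classSize s 0 + classSize s 1 + classSize s 2 = 6 := by decide +kernel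
    have h0 := support_class_le hsupp 0
    have h1 := support_class_le hsupp 1
    have h2 := support_class_le hsupp 2
    have a := htot tt
    have b := htot tu
    intro k
    fin_cases k <;> simp only [Fin.zero_eta, Fin.mk_one, Fin.reduceFinMk] <;> omega
  refine ⟨tt, hne, fun k => hct k ▸ hcu k, fun j => ?_⟩
  obtain ⟨i0, hi0⟩ := exists_ne σ j
  refine ⟨i0, ?_⟩
  set S := Finset.univ.filter fun i => mat σ i j ≠ 0
  set C := Finset.univ.filter fun i => tt i = tt i0
  have hsub : S ⊆ C := fun i hi => Finset.mem_filter.2 ⟨Finset.mem_univ _,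
    (hsupp i j (Finset.mem_filter.1 hi).2).trans (hsupp i0 j hi0).symm⟩
  have hC : C.card = 3 := by
    rcases hct (tt i0) ▸ hcu (tt i0) with h | h
    · exact absurd h (Finset.card_ne_zero.2 ⟨i0, by simp⟩)
    · exact h
  have h1 : S.card ≠ 1 := by
    intro h1
    obtain ⟨a, ha⟩ := Finset.card_eq_one.1 h1
    have honly : ∀ i, mat σ i j ≠ 0 → i = a := fun i hi => by
      have : i ∈ S := Finset.mem_filter.2 ⟨Finset.mem_univ _, hi⟩
      rwa [ha, Finset.mem_singleton] at this
    obtain ⟨p, ⟨x, rfl⟩, hp⟩ := exists_moved tu (hsum tu hus) hnu h9 hinv j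
    set y := σ⁻¹ * (x : U F) * σ with hy
    have he : mat (x : U F) * mat σ = mat σ * mat y := by
      rw [← map_mul, ← map_mul]
      congr 1
      simp [hy, mul_assoc]
    have hcol : ∀ i, dcoef (x : U F) i * mat σ i j = mat σ i (place y j) * mat y (place y j) j := fun i => by
      have he' := congrFun (congrFun he i) j
      rw [mat_of_mem_Dg (Subgroup.mem_inf.1 x.2).1, Matrix.diagonal_mul, Matrix.mul_apply,
        Finset.sum_eq_single (place y j) (fun k _ hk => by rw [mon_apply_eq_zero (hmem x) hk, mul_zero])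
          (by simp)] at he'
      exact he'
    refine hp (show place y j = j from ?_)
    by_contra hne'
    have hort := congrFun (congrFun (adj_mat_mul σ) (place y j)) j
    rw [Matrix.one_apply_ne hne', Matrix.mul_apply, Finset.sum_eq_single a (fun k _ hk => by
      rw [show mat σ k j = 0 from by_contra fun h => hk (honly k h), mul_zero]) (by simp)] at hort
    have hb : mat σ a j ≠ 0 := honly i0 hi0 ▸ hi0
    have hb' : mat σ a (place y j) ≠ 0 := fun h0 => by
      have := hcol a
      rw [h0, zero_mul] at this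
      exact (mul_ne_zero (dcoef_ne_zero (Subgroup.mem_inf.1 x.2).1 a) hb) this
    exact mul_ne_zero (pow_ne_zero 2 hb') hb hort
  have hcard : C.card ≤ S.card := by
    obtain ⟨k, hk⟩ := odd_of_norm hF σ j
    change S.card = 2 * k + 1 at hk
    omega
  have heq := Finset.eq_of_subset_of_card_le hsub hcard
  intro i
  have := Finset.ext_iff.1 heq i
  simpa [S, C] using this

/-- The cover meets one of the twisted orbits in its second frame. -/
theorem exists_rep (hF : Fintype.card F = 4) :
    ∃ (k : Fin 3) (q : Fin 112), (dK k (repU q))⁻¹ * (c.sig : U F) ∈ Mon := by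
  classical
  obtain ⟨tt, ⟨i1, hi1⟩, hsz, hcol⟩ := c.column_classes hD hF
  set σ := (c.sig : U F) with hσ
  have h30 : ∀ i, (Finset.univ.filter fun i' => tt i' = tt i).card = 3 := fun i =>
    (hsz (tt i)).resolve_left (Finset.card_ne_zero.2 ⟨i, by simp⟩)
  have hcompl : ∀ s : Fin 6 → Fin 3, (∀ k, classSize s k = 0 ∨ classSize s k = 3) → ∀ i j, s i ≠ s 0 →
      s j ≠ s 0 → s i = s j := by decide +kernel
  let S : Fin 6 → Bool := fun i => decide (tt i = tt 0)
  obtain ⟨ti, hti⟩ := mask_cover S (by simpa [S] using h30 0)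
  set m := masks.getD ti 0 with hm
  -- exponents of a column
  have hexp : ∀ j, ∃ e : Fin 6 → Fin 3, (∀ i, mat σ i j = 0 → e i = 0) ∧
      ∀ i, mat σ i j ≠ 0 → mat σ i j = Root.w (F := F) ^ (e i : ℕ) := fun j => by
    choose e he using fun i (h : mat σ i j ≠ 0) => exists_exp hF h
    refine ⟨fun i => if h : mat σ i j ≠ 0 then e i h else 0, fun i h => by simp [h], fun i h => ?_⟩
    simp only [h, ne_eq, not_false_eq_true, dite_true]
    exact he i h
  choose ex hex0 hex using hexp
  -- the mask of a column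
  let mk' : Fin 6 → ℕ := fun j => if mat σ 0 j ≠ 0 then m else Nat.sub 63 m
  have hbit : ∀ j i, mat σ i j ≠ 0 ↔ bitB (mk' j) i = true := by
    intro j i
    obtain ⟨i0, hi0⟩ := hcol j
    by_cases hz : mat σ 0 j ≠ 0
    · simp only [mk', if_pos hz, (hti i).1, S, decide_eq_true_eq]
      rw [hi0 i, ← (hi0 0).1 hz]
    · simp only [mk', if_neg hz, (hti i).2, S, Bool.not_eq_true', decide_eq_false_iff_not]
      have h0 : ¬ tt 0 = tt i0 := fun h => hz ((hi0 0).2 h)
      rw [hi0 i]
      exact ⟨fun h e => h0 (e.symm.trans h), fun h => hcompl tt hsz i i0 h (Ne.symm h0)⟩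
  have hC : ∀ j i, (tm (colC (mk' j) (enc (ex j))) : Matrix (Fin 6) (Fin 6) F) i 0 = mat σ i j := by
    intro j i
    rw [tm_colC_apply, dig3_enc]
    by_cases h : mat σ i j ≠ 0
    · rw [if_pos ((hbit j i).1 h), val_one_add (ex j i).2]
      exact (hex j i h).symm
    · rw [if_neg fun hb => h ((hbit j i).2 hb)]
      exact (not_not.1 h).symm
  have hsup : ∀ j, suppB (mk' j) (enc (ex j)) = true := fun j => suppB_enc _ _ fun i hb =>
    hex0 j i (by_contra fun h => by rw [(hbit j i).1 h] at hb; exact Bool.noConfusion hb)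
  have hsame : ∀ j j', (mat σ 0 j ≠ 0 ↔ mat σ 0 j' ≠ 0) → expSum (enc (ex j)) = expSum (enc (ex j')) := by
    intro j j' hjj
    by_cases hjeq : j' = j
    · rw [hjeq]
    have hmm : mk' j = mk' j' := by simp only [mk', hjj]
    have hmask : ∃ t < 20, masks.getD t 0 = mk' j := by
      have hc : ∀ t : Fin 20, ∃ t' : Fin 20, masks.getD t' 0 = Nat.sub 63 (masks.getD t 0) := by decide +kernel
      simp only [mk']
      split_ifs
      · exact ⟨ti, ti.2, rfl⟩
      · obtain ⟨t', ht'⟩ := hc ti
        exact ⟨t', t'.2, ht'⟩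
    obtain ⟨t, ht, htm⟩ := hmask
    have hchk := allBelow_eq_true.mp (allBelow_eq_true.mp line_orth_all t ht) _ (enc_lt (ex j))
    rw [htm] at hchk
    simp only [lineOrthB, hsup j, Bool.not_true, Bool.false_or, allBelow_eq_true] at hchk
    have h2 := hchk _ (enc_lt (ex j'))
    rw [hmm, hsup j'] at h2
    simp only [Bool.not_true, Bool.false_or, Bool.or_eq_true, Nat.beq_eq, Bool.not_eq_true'] at h2
    rcases h2 with h2 | h2
    · exact h2
    · exfalso
      have he : val (Root.w (F := F))
          (getE (mulC (starC (colC (mk' j') (enc (ex j')))) (colC (mk' j') (enc (ex j)))) 0 0) = 0 := by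
        have e1 : (tm (mulC (starC (colC (mk' j') (enc (ex j')))) (colC (mk' j') (enc (ex j)))) :
            Matrix (Fin 6) (Fin 6) F) 0 0 = adj (mat σ) j' j' * 0 + (adj (mat σ) * mat σ) j' j := by
          rw [mul_zero, zero_add, tm_mul, tm_star, Matrix.mul_apply, Matrix.mul_apply]
          refine Finset.sum_congr rfl fun i _ => ?_
          show (tm (colC (mk' j') (enc (ex j'))) : Matrix (Fin 6) (Fin 6) F) i 0 ^ 2 *
            (tm (colC (mk' j') (enc (ex j))) : Matrix (Fin 6) (Fin 6) F) i 0 = mat σ i j' ^ 2 * mat σ i j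
          rw [hC j' i, ← hmm, hC j i]
        rw [adj_mat_mul, Matrix.one_apply_ne hjeq, mul_zero, zero_add] at e1
        exact e1
      have hz : val (Root.w (F := F)) 0 = 0 := by simp [val]
      have := val_inj Root.hw (getE_lt _ _ _) (by norm_num) (he.trans hz.symm)
      rw [this] at h2
      simp at h2
  obtain ⟨jA, hjA⟩ := exists_ne_row σ 0
  obtain ⟨jB, hjB⟩ := exists_ne_row σ i1
  have hjB0 : ¬ mat σ 0 jB ≠ 0 := fun h => by
    obtain ⟨i0, hi0⟩ := hcol jB
    exact hi1 (((hi0 i1).1 hjB).trans ((hi0 0).1 h).symm)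
  set ka := expSum (enc (ex jA))
  set kb := expSum (enc (ex jB))
  have hka : ka < 3 := Nat.mod_lt _ (by norm_num)
  have hkb : kb < 3 := Nat.mod_lt _ (by norm_num)
  set T := 9 * (ti : ℕ) + 3 * ka + kb with hT
  have hw := wit_all T (by have := ti.2; omega)
  simp only [witOK, Bool.and_eq_true, Nat.blt_eq] at hw
  obtain ⟨⟨⟨hq, hk⟩, hl1⟩, hl2⟩ := hw
  set wq := (witness.getD T (0, 0)).1
  set wk := (witness.getD T (0, 0)).2
  change lineOK (masks.getD (T / 9) 0) (T / 3 % 3) wq wk = true at hl1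
  change lineOK (Nat.sub 63 (masks.getD (T / 9) 0)) (T % 3) wq wk = true at hl2
  rw [show T / 9 = (ti : ℕ) by omega, show T / 3 % 3 = ka by omega] at hl1
  rw [show T / 9 = (ti : ℕ) by omega, show T % 3 = kb by omega] at hl2
  refine ⟨⟨wk, hk⟩, ⟨wq, hq⟩, ?_⟩
  rw [mem_Mon, map_mul, mat_inv, mat_dK, mat_repU]
  have hlines : ∀ j, monB (mulC (starC (mulC (diagC wk) (rC wq))) (colC (mk' j) (enc (ex j)))) = true := by
    intro j
    by_cases hz : mat σ 0 j ≠ 0
    · have hs := hsame j jA ⟨fun _ => hjA, fun _ => hz⟩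
      have hmj : mk' j = m := if_pos hz
      have h := allBelow_eq_true.mp hl1 _ (enc_lt (ex j))
      rw [← hm] at h
      rw [hmj]
      have hsj := hsup j
      rw [hmj] at hsj
      simp only [hsj, hs, Bool.not_true, Bool.false_or] at h
      simpa [ka] using h
    · have hs := hsame j jB ⟨fun h => absurd h hz, fun h => absurd h hjB0⟩
      have hmj : mk' j = Nat.sub 63 m := if_neg hz
      have h := allBelow_eq_true.mp hl2 _ (enc_lt (ex j))
      rw [← hm] at h
      rw [hmj]
      have hsj := hsup j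
      rw [hmj] at hsj
      simp only [hsj, hs, Bool.not_true, Bool.false_or] at h
      simpa [kb] using h
  set D := (tm (diagC ((⟨wk, hk⟩ : Fin 3) : ℕ)) : Matrix (Fin 6) (Fin 6) F) with hDdef
  set R := (tm (rC wq) : Matrix (Fin 6) (Fin 6) F) with hRdef
  have hadj : adj (D * R * adj D) * mat σ = adj (adj D) * (adj (D * R) * mat σ) := by
    rw [adj_mul (D * R), mul_assoc]
  show IsMono (adj (D * R * adj D) * mat σ)
  rw [hadj]
  refine isMono_mul ?_ fun i i' j h h' => ?_
  · rw [hDdef, ← tm_star, ← tm_star]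
    intro i i' j h h'
    rw [tm_star, tm_star, tm, toMat_diagC, adj_diagonal, adj_diagonal] at h h'
    exact isMono_diagonal _ i i' j h h'
  · have hm' := (monB_iff (Root.hw (F := F)) _).1 (hlines j)
    change IsMono (tm _ : Matrix (Fin 6) (Fin 6) F) at hm'
    rw [tm_mul, tm_star, tm_mul, ← hRdef] at hm'
    have hcv : ∀ a, (adj (D * R) * (tm (colC (mk' j) (enc (ex j))) : Matrix (Fin 6) (Fin 6) F) : Matrix (Fin 6) (Fin 6) F) a 0 = (adj (D * R) * mat σ) a j := fun a => by
      rw [Matrix.mul_apply, Matrix.mul_apply]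
      exact Finset.sum_congr rfl fun l _ => by rw [hC j l]
    exact hm' i i' 0 (by rw [show (tm (diagC wk) : Matrix (Fin 6) (Fin 6) F) = D from rfl, hcv]; exact h)
      (by rw [show (tm (diagC wk) : Matrix (Fin 6) (Fin 6) F) = D from rfl, hcv]; exact h')

end Cover

end Cfsg.Agent.U62
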