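import Cfsg.Agent.U62.Model
import Cfsg.Agent.U62.CheckDist
import Cfsg.Agent.UnitMult.FourThree

/-!
# A subgroup of SU(6,2) with centre of order three and central quotient PSU(4,3)

The lifts of five generators permute 112 monomial frames as the generators permute 112 points.
-/

set_option autoImplicit false

namespace Cfsg.Agent.U62

open Matrix Cfsg.Agent.Compute Cfsg.Agent.StemCert
open scoped commutatorElement

/-- The group PSU(4,3), acting on 112 points. -/
abbrev G : Type := UnitMult.FourThree.G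

/-- Its generators. -/
noncomputable abbrev gG : ℕ → G := UnitMult.FourThree.gen

/-- The action on 112 points. -/
noncomputable abbrev ιG : G →* Equiv.Perm (Fin 112) := UnitMult.FourThree.ι

theorem ιG_injective : Function.Injective ιG := UnitMult.FourThree.ι_injective

theorem coded_G : Coded (w := 7) (k := 5) ιG gG pcs := UnitMult.FourThree.gen_coded

theorem lettersB_iff {k : ℕ} {wd : List ℕ} : lettersB k wd = true ↔ ∀ s ∈ wd, s < k := by
  constructor
  · intro h s hs
    simpa [Nat.blt_eq] using allB_spec h s hs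
  · intro h
    induction wd with
    | nil => rfl
    | cons a r ih =>
      show (Nat.blt a k && lettersB k r) = true
      rw [Bool.and_eq_true, Nat.blt_eq]
      exact ⟨h a List.mem_cons_self, ih fun s hs => h s (List.mem_cons_of_mem _ hs)⟩

theorem wP_spec {wd : List ℕ} (h : ∀ s ∈ wd, s < 5) (x : Fin 112) :
    (ιG (evalW gG wd) x : ℕ) = wP wd x := appW_spec coded_G wd h x

variable {F : Type} [Field F] [CharP F 2] [Root F] [Fintype F]

/-- The element sending the base frame to a frame. -/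
noncomputable def repU (p : Fin 112) : U F := evalW gA (repWords.getD p [])

theorem repWords_spec (p : Fin 112) : lettersB 5 (repWords.getD p []) = true ∧
    rC p = wC (repWords.getD p []) ∧ wP (repWords.getD p []) 72 = p := by
  have h := allBelow_eq_true.mp rep_all p p.2
  simp only [repOK, Bool.and_eq_true, Nat.beq_eq] at h
  exact ⟨h.1.1, h.1.2, h.2⟩

theorem mat_repU (p : Fin 112) : (mat (repU p) : Matrix (Fin 6) (Fin 6) F) = tm (rC p) := by
  rw [repU, mat_word (repWords_spec p).1, (repWords_spec p).2.1]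

/-- The base point. -/
def p0 : Fin 112 := ⟨72, by norm_num⟩

theorem repU_base : (repU p0 : U F) = 1 := mat_injective (by
  rw [mat_repU, map_one, show rC (p0 : ℕ) = idC from Nat.eq_of_beq_eq_true rep_base, tm_id])

/-- A frame, as a coset of the monomial subgroup. -/
noncomputable def cos (p : Fin 112) : U F ⧸ Mon := (repU p : U F)

theorem monB_mul_star {x : U F} {A : ℕ} (q : Fin 112) (hx : mat x = tm A) :
    (repU q)⁻¹ * x ∈ (Mon : Subgroup (U F)) ↔ monB (mulC (starC (rC q)) A) = true := by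
  rw [mem_Mon, map_mul, mat_inv, mat_repU, hx, ← tm_star, ← tm_mul, monB_iff (Root.hw (F := F))]

theorem dist_all (p : ℕ) (hp : p < 112) : distOK p = true := by
  rcases Nat.lt_or_ge p 56 with h1 | h1
  · exact allBelow_eq_true.mp dist_a p h1
  rcases Nat.lt_or_ge p 80 with h2 | h2
  · have := allBelow_eq_true.mp dist_b (p - 56) (by omega)
    rwa [show Nat.add (p - 56) 56 = p from Nat.sub_add_cancel h1] at this
  rcases Nat.lt_or_ge p 100 with h3 | h3
  · have := allBelow_eq_true.mp dist_c (p - 80) (by omega)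
    rwa [show Nat.add (p - 80) 80 = p from Nat.sub_add_cancel h2] at this
  have := allBelow_eq_true.mp dist_d (p - 100) (by omega)
  rwa [show Nat.add (p - 100) 100 = p from Nat.sub_add_cancel h3] at this

theorem cos_injective : Function.Injective (cos : Fin 112 → U F ⧸ Mon) := by
  have key : ∀ q p : Fin 112, (q : ℕ) < p → (cos q : U F ⧸ Mon) ≠ cos p := by
    intro q p hlt he
    have h := QuotientGroup.eq.1 he
    rw [monB_mul_star q (mat_repU p)] at h
    have h2 := allBelow_eq_true.mp (dist_all p p.2) q hlt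
    simp only [Bool.not_eq_true'] at h2
    rw [h] at h2
    exact Bool.noConfusion h2
  intro q p he
  rcases lt_trichotomy (q : ℕ) p with h | h | h
  · exact absurd he (key q p h)
  · exact Fin.ext h
  · exact absurd he.symm (key p q h)

theorem act_spec {s : ℕ} (hs : s < 5) (p : Fin 112) :
    (gA s : U F) • (cos p : U F ⧸ Mon) = cos (ιG (gG s) p) := by
  have h := allBelow_eq_true.mp (allBelow_eq_true.mp act_all s hs) p p.2
  simp only [actOK, Bool.and_eq_true] at h
  rw [cos, cos, MulAction.Quotient.smul_coe, eq_comm, QuotientGroup.eq, smul_eq_mul,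
    monB_mul_star (ιG (gG s) p) (A := mulC (aC s) (rC p)) (by rw [map_mul, mat_gA hs, mat_repU, tm_mul])]
  rw [coded_G s hs p]
  exact h.2

/-- The elements permuting the 112 frames. -/
noncomputable def Om : Subgroup (U F) where
  carrier := {x | ∀ p, ∃ q, x • (cos p : U F ⧸ Mon) = cos q}
  mul_mem' {x y} hx hy p := by
    obtain ⟨q, hq⟩ := hy p
    obtain ⟨r, hr⟩ := hx q
    exact ⟨r, by rw [mul_smul, hq, hr]⟩
  one_mem' p := ⟨p, one_smul _ _⟩
  inv_mem' {x} hx p := by
    choose f hf using hx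
    have hinj : Function.Injective f := fun a b h => cos_injective (F := F) (MulAction.injective x (by
      show x • cos a = x • cos b
      rw [hf, hf, h]))
    obtain ⟨q, hq⟩ := (Finite.injective_iff_surjective.1 hinj) p
    exact ⟨q, by rw [inv_smul_eq_iff, hf, hq]⟩

/-- The image of a point. -/
noncomputable def omImg (x : ↥(Om : Subgroup (U F))) (p : Fin 112) : Fin 112 := (x.2 p).choose

theorem omImg_spec (x : ↥(Om : Subgroup (U F))) (p : Fin 112) :
    x.1 • (cos p : U F ⧸ Mon) = cos (omImg x p) := (x.2 p).choose_spec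

/-- The permutation of the frames. -/
noncomputable def ρ : ↥(Om : Subgroup (U F)) →* Equiv.Perm (Fin 112) where
  toFun x :=
    { toFun := omImg x
      invFun := omImg x⁻¹
      left_inv := fun p => cos_injective (F := F) (by
        rw [← omImg_spec, ← omImg_spec, Subgroup.coe_inv, inv_smul_smul])
      right_inv := fun p => cos_injective (F := F) (by
        rw [← omImg_spec, ← omImg_spec, Subgroup.coe_inv, smul_inv_smul]) }
  map_one' := Equiv.ext fun p => cos_injective (F := F) (by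
    show cos (omImg 1 p) = _
    rw [← omImg_spec, Subgroup.coe_one, one_smul]
    rfl)
  map_mul' x y := Equiv.ext fun p => cos_injective (F := F) (by
    show cos (omImg (x * y) p) = cos (omImg x (omImg y p))
    rw [← omImg_spec, ← omImg_spec, ← omImg_spec, Subgroup.coe_mul, mul_smul])

theorem ρ_spec (x : ↥(Om : Subgroup (U F))) (p : Fin 112) :
    x.1 • (cos p : U F ⧸ Mon) = cos (ρ x p) := omImg_spec x p

/-- The subgroup generated by the lifts. -/
noncomputable def K0 : Subgroup (U F) := Subgroup.closure (gA '' {s | s < 5})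

theorem gA_mem {s : ℕ} (hs : s < 5) : (gA s : U F) ∈ K0 := Subgroup.subset_closure ⟨s, hs, rfl⟩

theorem word_mem {wd : List ℕ} (h : lettersB 5 wd = true) : (evalW gA wd : U F) ∈ K0 :=
  list_prod_mem fun y hy => by
    obtain ⟨s, hs, rfl⟩ := List.mem_map.1 hy
    exact gA_mem (lettersB_iff.1 h s hs)

theorem K0_le_Om : (K0 : Subgroup (U F)) ≤ Om := by
  rw [K0, Subgroup.closure_le]
  rintro _ ⟨s, hs, rfl⟩ p
  exact ⟨_, act_spec hs p⟩

/-- The action of the subgroup on the frames. -/
noncomputable def ρ0 : ↥(K0 : Subgroup (U F)) →* Equiv.Perm (Fin 112) := ρ.comp (Subgroup.inclusion K0_le_Om)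

theorem ρ0_spec (x : ↥(K0 : Subgroup (U F))) (p : Fin 112) :
    x.1 • (cos p : U F ⧸ Mon) = cos (ρ0 x p) := ρ_spec (Subgroup.inclusion K0_le_Om x) p

theorem ρ0_gA {s : ℕ} (hs : s < 5) : ρ0 (⟨gA s, gA_mem hs⟩ : ↥(K0 : Subgroup (U F))) = ιG (gG s) :=
  Equiv.ext fun p => cos_injective (F := F) (by rw [← ρ0_spec, ← act_spec hs])

theorem ρ0_mem_range (x : ↥(K0 : Subgroup (U F))) : ρ0 x ∈ ιG.range := by
  obtain ⟨x, hx⟩ := x
  have key : ∀ y ∈ (K0 : Subgroup (U F)), ∀ hy : y ∈ (K0 : Subgroup (U F)), ρ0 ⟨y, hy⟩ ∈ ιG.range := by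
    intro y hy
    induction hy using Subgroup.closure_induction with
    | mem z hz =>
      obtain ⟨s, hs, rfl⟩ := hz
      intro _
      exact ⟨gG s, (ρ0_gA hs).symm⟩
    | one =>
      intro h
      rw [show (⟨1, h⟩ : ↥(K0 : Subgroup (U F))) = 1 from rfl, map_one]
      exact one_mem _
    | mul a b ha hb iha ihb =>
      intro h
      rw [show (⟨a * b, h⟩ : ↥(K0 : Subgroup (U F))) = ⟨a, ha⟩ * ⟨b, hb⟩ from rfl, map_mul]
      exact mul_mem (iha ha) (ihb hb)
    | inv a ha iha =>
      intro h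
      rw [show (⟨a⁻¹, h⟩ : ↥(K0 : Subgroup (U F))) = ⟨a, ha⟩⁻¹ from rfl, map_inv]
      exact inv_mem (iha ha)
  exact key x hx hx

/-- The map onto PSU(4,3). -/
noncomputable def φ : ↥(K0 : Subgroup (U F)) →* G :=
  (MonoidHom.ofInjective ιG_injective).symm.toMonoidHom.comp (ρ0.codRestrict ιG.range ρ0_mem_range)

theorem ι_φ (x : ↥(K0 : Subgroup (U F))) : ιG (φ x) = ρ0 x := MonoidHom.apply_ofInjective_symm ιG_injective _

theorem φ_gA {s : ℕ} (hs : s < 5) : φ (⟨gA s, gA_mem hs⟩ : ↥(K0 : Subgroup (U F))) = gG s :=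
  ιG_injective (by rw [ι_φ, ρ0_gA hs])

theorem φ_word : ∀ {wd : List ℕ} (h : lettersB 5 wd = true),
    φ (⟨evalW gA wd, word_mem h⟩ : ↥(K0 : Subgroup (U F))) = evalW gG wd
  | [], h => by
    show φ (1 : ↥(K0 : Subgroup (U F))) = 1
    exact map_one _
  | s :: wd, h => by
    have hh := lettersB_iff.1 h
    have h' : lettersB 5 wd = true := lettersB_iff.2 fun t ht => hh t (List.mem_cons_of_mem _ ht)
    refine Eq.trans ?_ (evalW_cons gG s wd).symm
    rw [← φ_gA (F := F) (hh s List.mem_cons_self), ← φ_word h', ← map_mul]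
    exact congrArg φ (Subtype.ext (evalW_cons _ _ _))

theorem φ_surjective : Function.Surjective (φ : ↥(K0 : Subgroup (U F)) → G) := by
  intro g
  have hg := UnitMult.FourThree.gen_generates g
  have hle : Submonoid.closure (gG '' {s | s < 5}) ≤ (φ (F := F)).range.toSubmonoid :=
    Submonoid.closure_le.2 (by
      rintro _ ⟨s, hs, rfl⟩
      exact ⟨_, φ_gA hs⟩)
  exact hle hg

/-- The scalar element of order three. -/
noncomputable def zU : U F := evalW gA scalWord

theorem scalWord_spec : lettersB 5 scalWord = true ∧ wC scalWord = scalC 2 := by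
  have h := scal_ok
  simp only [Bool.and_eq_true, Nat.beq_eq] at h
  exact h

theorem mat_zU : (mat (zU) : Matrix (Fin 6) (Fin 6) F) = Matrix.scalar (Fin 6) (Root.w (F := F)) := by
  rw [zU, mat_word scalWord_spec.1, scalWord_spec.2, tm, toMat_scalC (by norm_num)]
  simp [val]

theorem zU_mem : (zU : U F) ∈ K0 := word_mem scalWord_spec.1

/-- The number with given six ternary digits. -/
def enc (t : Fin 6 → Fin 3) : ℕ :=
  t 0 + 3 * (t 1 + 3 * (t 2 + 3 * (t 3 + 3 * (t 4 + 3 * t 5))))

theorem enc_lt (t : Fin 6 → Fin 3) : enc t < 729 := by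
  simp only [enc]
  have := (t 0).2; have := (t 1).2; have := (t 2).2; have := (t 3).2; have := (t 4).2; have := (t 5).2
  omega

theorem dig3_enc (t : Fin 6 → Fin 3) (i : Fin 6) : dig3 (enc t) i = t i := by
  have h : ∀ a b c d e f : Fin 3, ∀ i : Fin 6,
      dig3 (a + 3 * (b + 3 * (c + 3 * (d + 3 * (e + 3 * f))))) i = (![a, b, c, d, e, f] i : ℕ) := by
    decide +kernel
  refine (h (t 0) (t 1) (t 2) (t 3) (t 4) (t 5) i).trans ?_
  fin_cases i <;> rfl

theorem val_one_add {a : ℕ} (ha : a < 3) : val (Root.w (F := F)) (1 + a) = Root.w (F := F) ^ a := by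
  have h2 : (2 : F) = 0 := CharTwo.two_eq_zero
  have hw := Root.hw (F := F)
  interval_cases a <;> simp [val] <;> grind

theorem w_pow_eq_iff {a b : ℕ} : Root.w (F := F) ^ a = Root.w (F := F) ^ b ↔ a % 3 = b % 3 := by
  have ho : orderOf (Root.w (F := F)) = 3 := by
    refine orderOf_eq_prime cube_w fun h => ?_
    have hw := Root.hw (F := F)
    rw [h] at hw
    norm_num at hw
    have h2 : (2 : F) = 0 := CharTwo.two_eq_zero
    exact one_ne_zero (show (1 : F) = 0 by linear_combination hw - h2)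
  constructor
  · intro h
    have h' : IsOfFinOrder (Root.w (F := F)) := isOfFinOrder_iff_pow_eq_one.2 ⟨3, by norm_num, cube_w⟩
    have := h'.pow_inj_mod.1 h
    rwa [ho] at this
  · intro h
    rw [← pow_mod_orderOf, ho, h]
    conv_rhs => rw [← pow_mod_orderOf, ho]

theorem exists_exp (hF : Fintype.card F = 4) {a : F} (ha : a ≠ 0) : ∃ t : Fin 3, a = Root.w (F := F) ^ (t : ℕ) := by
  classical
  let f : Fin 3 → {x : F // x ≠ 0} := fun t => ⟨Root.w (F := F) ^ (t : ℕ), pow_ne_zero _ w_ne_zero⟩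
  have hf : Function.Injective f := fun s t h => by
    have h' := w_pow_eq_iff.1 (congrArg Subtype.val h)
    exact Fin.ext (by omega)
  have hc : Fintype.card {x : F // x ≠ 0} = 3 := by
    rw [Fintype.card_subtype_compl, Fintype.card_subtype_eq, hF]
  obtain ⟨t, ht⟩ := ((Fintype.bijective_iff_injective_and_card f).2 ⟨hf, by rw [hc, Fintype.card_fin]⟩).2 ⟨a, ha⟩
  exact ⟨t, (congrArg Subtype.val ht).symm⟩

theorem dcoef_ne_zero {x : U F} (hx : x ∈ Dg) (i : Fin 6) : dcoef x i ≠ 0 := fun h => by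
  have := det_mat x
  rw [mat_of_mem_Dg hx, Matrix.det_diagonal, Finset.prod_eq_zero (Finset.mem_univ i) h] at this
  exact zero_ne_one this

theorem exists_code (hF : Fintype.card F = 4) {x : U F} (hx : x ∈ Dg) :
    ∃ t : Fin 6 → Fin 3, mat x = tm (diagC (enc t)) ∧ expSum (enc t) = 0 ∧
      ∀ i, dcoef x i = Root.w (F := F) ^ (t i : ℕ) := by
  choose t ht using fun i => exists_exp hF (dcoef_ne_zero hx i)
  refine ⟨t, ?_, ?_, ht⟩
  · rw [mat_of_mem_Dg hx, tm, toMat_diagC]
    congr 1
    funext i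
    rw [dig3_enc, val_one_add (t i).2, ht]
  · have h := det_mat x
    rw [mat_of_mem_Dg hx, Matrix.det_diagonal, Fin.prod_univ_six] at h
    simp only [ht, ← pow_add] at h
    rw [← pow_zero (Root.w (F := F)), w_pow_eq_iff] at h
    show (dig3 (enc t) (0 : Fin 6) + (dig3 (enc t) (1 : Fin 6) + (dig3 (enc t) (2 : Fin 6) +
      (dig3 (enc t) (3 : Fin 6) + (dig3 (enc t) (4 : Fin 6) + dig3 (enc t) (5 : Fin 6)))))) % 3 = 0
    simp only [dig3_enc]
    omega

/-- The given diagonal elements. -/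
noncomputable def dU (k : ℕ) : U F := evalW gA (diagWords.getD k [])

theorem diagWords_spec {k : ℕ} (hk : k < 5) :
    lettersB 5 (diagWords.getD k []) = true ∧ wC (diagWords.getD k []) = diagC (diagExp k) := by
  have h := allBelow_eq_true.mp diag_all k hk
  simpa [Bool.and_eq_true, Nat.beq_eq] using h

theorem mat_dU {k : ℕ} (hk : k < 5) :
    (mat (dU k) : Matrix (Fin 6) (Fin 6) F) = tm (diagC (diagExp k)) := by
  rw [dU, mat_word (diagWords_spec hk).1, (diagWords_spec hk).2]

theorem dU_mem_K0 {k : ℕ} (hk : k < 5) : (dU k : U F) ∈ K0 := word_mem (diagWords_spec hk).1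

theorem dU_mem_Dg {k : ℕ} (hk : k < 5) : (dU k : U F) ∈ Dg := mem_Dg.2 fun i j h => by
  rw [mat_dU hk, tm, toMat_diagC, Matrix.diagonal_apply_ne _ h]

theorem dcoef_dU {k : ℕ} (hk : k < 5) (i : Fin 6) :
    dcoef (dU k : U F) i = Root.w (F := F) ^ dig3 (diagExp k) i := by
  rw [dcoef, mat_dU hk, tm, toMat_diagC, Matrix.diagonal_apply_eq, val_one_add (dig3_lt _ _)]

theorem perm_rigid : ∀ σ : Equiv.Perm (Fin 6),
    (∀ k : Fin 5, ∀ j : Fin 6, (dig3 (diagExp k) j + dig3 (diagExp k) (σ 0)) % 3 =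
      (dig3 (diagExp k) (0 : Fin 6) + dig3 (diagExp k) (σ j)) % 3) → σ = 1 := by
  decide +kernel

theorem mem_ker_fix {x : ↥(K0 : Subgroup (U F))} (hx : φ x = 1) (p : Fin 112) :
    (repU p)⁻¹ * x.1 * repU p ∈ (Mon : Subgroup (U F)) := by
  have h := ρ0_spec x p
  rw [← ι_φ, hx, map_one, Equiv.Perm.one_apply, cos, MulAction.Quotient.smul_coe, smul_eq_mul, eq_comm,
    QuotientGroup.eq, ← mul_assoc] at h
  exact h

theorem ker_scalar_of_diag (hF : Fintype.card F = 4) {x : ↥(K0 : Subgroup (U F))} (hx : φ x = 1)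
    (hd : x.1 ∈ Dg) : ∀ i, dcoef x.1 i = dcoef x.1 0 := by
  obtain ⟨t, hm, hs, ht⟩ := exists_code hF hd
  have h := mem_ker_fix hx ⟨0, by norm_num⟩
  rw [mem_Mon, map_mul, map_mul, mat_inv, mat_repU, hm, ← tm_star, ← tm_mul, ← tm_mul, ← monB_iff Root.hw] at h
  have hk := allBelow_eq_true.mp ker_all (enc t) (enc_lt t)
  have h' : monB (mulC (starC (rC 0)) (mulC (diagC (enc t)) (rC 0))) = true := by
    rw [monB_iff (Root.hw (F := F)), toMat_mulC Root.hw, toMat_mulC Root.hw, ← mul_assoc,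
      ← toMat_mulC Root.hw, ← toMat_mulC Root.hw, ← monB_iff Root.hw]
    exact h
  simp only [kerOK, h', hs, Bool.not_true, Bool.or_false, Bool.or_eq_true, Bool.not_eq_true'] at hk
  rcases hk with hk | hk
  · simp at hk
  · intro i
    have hi := allBelow_eq_true.mp hk i i.2
    rw [Nat.beq_eq, dig3_enc, show (0 : ℕ) = ((0 : Fin 6) : ℕ) from rfl, dig3_enc] at hi
    rw [ht, ht, hi]

theorem ker_le_Dg (hF : Fintype.card F = 4) {x : ↥(K0 : Subgroup (U F))} (hx : φ x = 1) : x.1 ∈ Dg := by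
  have hM : x.1 ∈ Mon := by
    have := mem_ker_fix hx p0
    rwa [repU_base, inv_one, one_mul, mul_one] at this
  set σ := πM ⟨x.1, hM⟩ with hσ
  suffices σ = 1 by exact ⟨⟨x.1, hM⟩, MonoidHom.mem_ker.2 this, rfl⟩
  refine perm_rigid σ fun k j => ?_
  let d : ↥(K0 : Subgroup (U F)) := ⟨dU k, dU_mem_K0 k.2⟩
  have hy : φ (x * d * x⁻¹ * d⁻¹) = 1 := by
    rw [map_mul, map_mul, map_mul, map_inv, map_inv, hx]
    group
  have hyD : (x * d * x⁻¹ * d⁻¹).1 ∈ Dg := by
    show x.1 * dU k * x.1⁻¹ * (dU k)⁻¹ ∈ Dg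
    refine mul_mem ?_ (inv_mem (dU_mem_Dg k.2))
    obtain ⟨⟨d', hd'⟩, hker, he⟩ := dU_mem_Dg (F := F) k.2
    refine ⟨⟨x.1, hM⟩ * ⟨d', hd'⟩ * ⟨x.1, hM⟩⁻¹, ?_, ?_⟩
    · exact (MonoidHom.normal_ker _).conj_mem _ hker _
    · show x.1 * d' * x.1⁻¹ = _
      rw [← he]
      rfl
  have hsc := ker_scalar_of_diag hF hy hyD
  have key : ∀ i, dcoef (dU k : U F) i =
      dcoef (x * d * x⁻¹ * d⁻¹).1 0 * dcoef (dU k : U F) (σ i) := by
    intro i
    have he : mat x.1 * mat (dU k) = mat (x * d * x⁻¹ * d⁻¹).1 * mat (dU k) * mat x.1 := by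
      rw [← map_mul, ← map_mul, ← map_mul]
      congr 1
      show x.1 * dU k = x.1 * dU k * x.1⁻¹ * (dU k)⁻¹ * dU k * x.1
      group
    have he' := congrFun (congrFun he (σ i)) i
    rw [mat_of_mem_Dg (dU_mem_Dg k.2), mat_of_mem_Dg hyD, Matrix.diagonal_mul_diagonal, Matrix.mul_diagonal,
      Matrix.diagonal_mul, hsc] at he'
    exact mul_left_cancel₀ (place_spec x.1 i) (he'.trans (mul_comm _ _))
  have h1 := key j
  have h2 := key 0
  rw [dcoef_dU k.2, dcoef_dU k.2] at h1 h2
  have h3 : Root.w (F := F) ^ (dig3 (diagExp k) j + dig3 (diagExp k) (σ 0)) =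
      Root.w (F := F) ^ (dig3 (diagExp k) (0 : Fin 6) + dig3 (diagExp k) (σ j)) := by
    rw [pow_add, pow_add, h1, h2]
    ring
  exact w_pow_eq_iff.1 h3

theorem zU_cube : (zU : U F) ^ 3 = 1 := mat_injective (by
  rw [map_pow, mat_zU, ← map_pow, cube_w, map_one, map_one])

theorem ker_eq_zpowers (hF : Fintype.card F = 4) :
    (φ : ↥(K0 : Subgroup (U F)) →* G).ker = Subgroup.zpowers ⟨zU, zU_mem⟩ := by
  apply le_antisymm
  · intro x hx
    have hd := ker_le_Dg hF (MonoidHom.mem_ker.1 hx)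
    obtain ⟨t, ht⟩ := exists_exp hF (dcoef_ne_zero hd 0)
    refine Subgroup.mem_zpowers_iff.2 ⟨(t : ℕ), Subtype.ext (mat_injective ?_)⟩
    rw [zpow_natCast, Subgroup.coe_pow, map_pow, mat_zU, ← map_pow, mat_of_mem_Dg hd, Matrix.scalar_apply]
    congr 1
    funext i
    rw [ker_scalar_of_diag hF (MonoidHom.mem_ker.1 hx) hd, ht]
  · rw [Subgroup.zpowers_le, MonoidHom.mem_ker]
    refine ιG_injective (Equiv.ext fun p => cos_injective (F := F) ?_)
    rw [ι_φ, map_one, Equiv.Perm.one_apply, ← ρ0_spec]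
    show zU • cos p = cos p
    rw [cos, MulAction.Quotient.smul_coe, smul_eq_mul, eq_comm, QuotientGroup.eq]
    have hc : (repU p : U F)⁻¹ * (zU * repU p) = zU := by
      rw [inv_mul_eq_iff_eq_mul]
      refine mat_injective ?_
      rw [map_mul, map_mul, mat_zU]
      exact (Matrix.scalar_commute (Root.w (F := F)) (Commute.all _) (mat (repU p))).eq
    rw [hc, mem_Mon, mat_zU, Matrix.scalar_apply]
    exact isMono_diagonal _

end Cfsg.Agent.U62
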