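import Cfsg.Prelude.Def_Classical
import Cfsg.Agent.U62.Check
import Cfsg.Agent.StemCert.Bound

/-!
# SU(6,2): packed elements, the monomial subgroup and its permutation map
-/

set_option autoImplicit false

namespace Cfsg.Agent.U62

open Matrix Cfsg.Agent.Compute Cfsg.Agent.StemCert
open scoped commutatorElement

variable {F : Type} [Field F] [CharP F 2]

/-- The adjoint of a matrix. -/
def adj (M : Matrix (Fin 6) (Fin 6) F) : Matrix (Fin 6) (Fin 6) F := (M.map (· ^ 2))ᵀ

/-- The group. -/
abbrev U (F : Type) [Field F] : Type := ↥(Cfsg.SU 6 F 2)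

/-- The matrix of an element. -/
noncomputable def mat : U F →* Matrix (Fin 6) (Fin 6) F :=
  (Cfsg.slToMat 6 F).comp (Cfsg.SU 6 F 2).subtype

omit [CharP F 2] in
theorem mat_injective : Function.Injective (mat : U F → Matrix (Fin 6) (Fin 6) F) := fun _ _ h =>
  Subtype.ext (Subtype.ext h)

omit [CharP F 2] in
theorem det_mat (x : U F) : (mat x).det = 1 := x.1.2

theorem adj_mul (M N : Matrix (Fin 6) (Fin 6) F) : adj (M * N) = adj N * adj M := by
  have h : ∀ M : Matrix (Fin 6) (Fin 6) F, M.map (· ^ 2) = M.map (frobenius F 2) := fun _ => rfl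
  simp only [adj, h, Matrix.map_mul, Matrix.transpose_mul]

theorem det_adj (M : Matrix (Fin 6) (Fin 6) F) : (adj M).det = M.det ^ 2 := by
  have h : M.map (· ^ 2) = (frobenius F 2).mapMatrix M := rfl
  rw [adj, Matrix.det_transpose, h, ← RingHom.map_det]
  rfl

theorem herm_mulVec (M : Matrix (Fin 6) (Fin 6) F) (u v : Fin 6 → F) :
    Cfsg.hermForm 6 F 2 (M *ᵥ u) (M *ᵥ v) = u ⬝ᵥ ((Mᵀ * M.map (frobenius F 2)) *ᵥ fun i => v i ^ 2) := by
  have h : ∀ u v : Fin 6 → F, Cfsg.hermForm 6 F 2 u v = u ⬝ᵥ fun i => v i ^ 2 := fun _ _ => rfl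
  have h2 : (fun i => (M *ᵥ v) i ^ 2) = M.map (frobenius F 2) *ᵥ fun i => v i ^ 2 := by
    funext i
    exact RingHom.map_mulVec (frobenius F 2) M v i
  rw [h, h2, ← Matrix.mulVec_mulVec, Matrix.dotProduct_mulVec u Mᵀ, Matrix.vecMul_transpose]

theorem mem_SU_of {M : Matrix.SpecialLinearGroup (Fin 6) F}
    (h : adj (M : Matrix (Fin 6) (Fin 6) F) * M = 1) : M ∈ Cfsg.SU 6 F 2 := by
  intro u v
  show Cfsg.hermForm 6 F 2 ((M : Matrix (Fin 6) (Fin 6) F) *ᵥ u) ((M : Matrix (Fin 6) (Fin 6) F) *ᵥ v) = _
  have h' := congrArg Matrix.transpose h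
  rw [adj, Matrix.transpose_mul, Matrix.transpose_transpose, Matrix.transpose_one] at h'
  rw [herm_mulVec, show (M : Matrix (Fin 6) (Fin 6) F).map (frobenius F 2)
    = (M : Matrix (Fin 6) (Fin 6) F).map (· ^ 2) from rfl, h', Matrix.one_mulVec]
  rfl

theorem adj_mat_mul (x : U F) : adj (mat x) * mat x = 1 := by
  have key : (mat x)ᵀ * (mat x).map (frobenius F 2) = 1 := by
    ext i j
    have h := x.2 (Pi.single i 1) (Pi.single j 1)
    change Cfsg.hermForm 6 F 2 (mat x *ᵥ Pi.single i 1) (mat x *ᵥ Pi.single j 1) = _ at h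
    rw [herm_mulVec] at h
    have hs : (fun k => (Pi.single j (1 : F) : Fin 6 → F) k ^ 2) = Pi.single j 1 := by
      funext k
      by_cases hk : k = j
      · subst hk; simp
      · simp [hk]
    rw [hs, single_one_dotProduct, Matrix.mulVec_single_one] at h
    refine h.trans ?_
    show Cfsg.hermForm 6 F 2 _ _ = _
    simp only [Cfsg.hermForm]
    rw [Finset.sum_eq_single i (fun k _ hk => by simp [hk]) (by simp)]
    simp only [Pi.single_eq_same, one_mul, Matrix.one_apply]
    by_cases hij : i = j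
    · subst hij; simp
    · simp [hij]
  have h' := congrArg Matrix.transpose key
  rw [Matrix.transpose_mul, Matrix.transpose_transpose, Matrix.transpose_one] at h'
  exact h'

theorem mat_inv (x : U F) : mat x⁻¹ = adj (mat x) := by
  have h1 : mat x⁻¹ * mat x = 1 := by rw [← map_mul, inv_mul_cancel, map_one]
  have h2 : mat x * mat x⁻¹ = 1 := by rw [← map_mul, mul_inv_cancel, map_one]
  calc mat x⁻¹ = (adj (mat x) * mat x) * mat x⁻¹ := by rw [adj_mat_mul, one_mul]
    _ = adj (mat x) := by rw [mul_assoc, h2, mul_one]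

/-- An element from a unitary matrix of determinant one. -/
def mk (M : Matrix (Fin 6) (Fin 6) F) (h : adj M * M = 1) (hd : M.det = 1) : U F :=
  ⟨⟨M, hd⟩, mem_SU_of h⟩

theorem mat_mk (M : Matrix (Fin 6) (Fin 6) F) (h : adj M * M = 1) (hd : M.det = 1) : mat (mk M h hd) = M := rfl

/-- The root of unity. -/
class Root (F : Type) [Field F] where
  /-- A primitive third root of unity. -/
  w : F
  hw : w ^ 2 + w + 1 = 0

variable [Root F]

/-- The matrix of a packed matrix. -/
noncomputable abbrev tm (A : ℕ) : Matrix (Fin 6) (Fin 6) F := toMat (Root.w (F := F)) A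

theorem tm_mul (A B : ℕ) : (tm (mulC A B) : Matrix (Fin 6) (Fin 6) F) = tm A * tm B :=
  toMat_mulC Root.hw A B

theorem tm_star (A : ℕ) : (tm (starC A) : Matrix (Fin 6) (Fin 6) F) = adj (tm A) := toMat_starC Root.hw A

theorem tm_id : (tm idC : Matrix (Fin 6) (Fin 6) F) = 1 := toMat_idC

theorem cube_w : (Root.w (F := F)) ^ 3 = 1 := by linear_combination (Root.w (F := F) - 1) * Root.hw (F := F)

theorem w_ne_zero : (Root.w (F := F)) ≠ 0 := fun h => by
  have := cube_w (F := F)
  rw [h] at this
  norm_num at this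

theorem val_cube {a : ℕ} (ha : a < 3) : val (Root.w (F := F)) (1 + a) ^ 3 = 1 := by
  have h2 : (2 : F) = 0 := CharTwo.two_eq_zero
  have hw := Root.hw (F := F)
  interval_cases a <;> simp [val] <;> grind

theorem det_comm {X Y : Matrix (Fin 6) (Fin 6) F} (hX : adj X * X = 1) (hY : adj Y * Y = 1) :
    (X * Y * (adj X * adj Y)).det = 1 := by
  have h1 := congrArg Matrix.det hX
  have h2 := congrArg Matrix.det hY
  rw [Matrix.det_mul, Matrix.det_one] at h1 h2
  rw [Matrix.det_mul, Matrix.det_mul, Matrix.det_mul]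
  linear_combination (Matrix.det (adj Y) * Y.det) * h1 + h2

theorem gen_facts {s : ℕ} (hs : s < 5) :
    adj (tm (aC s)) * tm (aC s) = (1 : Matrix (Fin 6) (Fin 6) F) ∧
      (tm (aC s) : Matrix (Fin 6) (Fin 6) F).det = 1 := by
  have hall := fun s hs => allBelow_eq_true.mp gen_all s hs
  simp only [genOK, Bool.and_eq_true, Nat.beq_eq] at hall
  have hu : ∀ s < 5, adj (tm (aC s)) * tm (aC s) = (1 : Matrix (Fin 6) (Fin 6) F) := fun s hs => by
    rw [← tm_star, ← tm_mul, (hall s hs).1.1.1, tm_id]
  refine ⟨hu s hs, ?_⟩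
  obtain ⟨⟨⟨-, hl⟩, hc⟩, he⟩ := hall s hs
  rw [Nat.blt_eq] at hc
  have hval : (Nat.add 1 (commScal.getD s 0)) < 4 := show 1 + _ < 4 by omega
  rw [he, tm_mul, tm, tm, toMat_scalC hval, Matrix.det_mul, Matrix.scalar_apply, Matrix.det_diagonal]
  have h6 : (val (Root.w (F := F)) (1 + commScal.getD s 0)) ^ 6 = 1 := by
    rw [show 6 = 3 * 2 from rfl, pow_mul, val_cube hc, one_pow]
  simp only [Finset.prod_const, Finset.card_univ, Fintype.card_fin]
  rw [show (Nat.add 1 (commScal.getD s 0)) = 1 + commScal.getD s 0 from rfl, h6, mul_one]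
  clear he h6 hval hc
  have hl' := allB_spec hl
  clear hl
  generalize UnitMult.FourThree.cert.comms.getD s [] = l at hl' ⊢
  induction l with
  | nil => exact (congrArg Matrix.det tm_id).trans Matrix.det_one
  | cons p r ih =>
    have hp := hl' p List.mem_cons_self
    simp only [Bool.and_eq_true, Nat.blt_eq] at hp
    show (tm (mulC (mulC (mulC (aC p.1) (aC p.2)) (mulC (starC (aC p.1)) (starC (aC p.2)))) (commC r)) :
      Matrix (Fin 6) (Fin 6) F).det = 1
    rw [tm_mul, tm_mul, tm_mul, tm_mul, tm_star, tm_star, Matrix.det_mul, det_comm (hu _ hp.1) (hu _ hp.2),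
      one_mul]
    exact ih fun q hq => hl' q (List.mem_cons_of_mem _ hq)

/-- The lift of a generator. -/
noncomputable def gA (s : ℕ) : U F :=
  if hs : s < 5 then mk (tm (aC s)) (gen_facts hs).1 (gen_facts hs).2 else 1

theorem mat_gA {s : ℕ} (hs : s < 5) : (mat (gA s) : Matrix (Fin 6) (Fin 6) F) = tm (aC s) := by
  rw [gA, dif_pos hs, mat_mk]

theorem mat_word : ∀ {wd : List ℕ}, lettersB 5 wd = true →
    (mat (evalW gA wd) : Matrix (Fin 6) (Fin 6) F) = tm (wC wd)
  | [], _ => by
    show mat 1 = _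
    rw [map_one]
    exact tm_id.symm
  | s :: wd, h => by
    have h' : (Nat.blt s 5 && lettersB 5 wd) = true := h
    rw [Bool.and_eq_true, Nat.blt_eq] at h'
    rw [evalW_cons, map_mul, mat_word h'.2, mat_gA h'.1, ← tm_mul]
    rfl

theorem isMono_mul {M N : Matrix (Fin 6) (Fin 6) F} (hM : IsMono M) (hN : IsMono N) : IsMono (M * N) := by
  intro i i' j h h'
  rw [Matrix.mul_apply] at h h'
  obtain ⟨k, -, hk⟩ := Finset.exists_ne_zero_of_sum_ne_zero h
  obtain ⟨k', -, hk'⟩ := Finset.exists_ne_zero_of_sum_ne_zero h'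
  obtain ⟨a, b⟩ := mul_ne_zero_iff.1 hk
  obtain ⟨a', b'⟩ := mul_ne_zero_iff.1 hk'
  obtain rfl := hN _ _ _ b b'
  exact hM _ _ _ a a'

omit [CharP F 2] [Root F] in
theorem isMono_diagonal (d : Fin 6 → F) : IsMono (Matrix.diagonal d) := fun i i' j h h' => by
  rw [Matrix.diagonal_apply] at h h'
  split_ifs at h h' with a b <;> simp_all

variable [Fintype F]

instance : Finite (U F) := Finite.of_injective _ mat_injective

/-- The monomial subgroup. -/
noncomputable def Mon : Subgroup (U F) where
  carrier := {x | IsMono (mat x)}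
  mul_mem' {x y} hx hy := by
    show IsMono (mat (x * y))
    rw [map_mul]
    exact isMono_mul hx hy
  one_mem' := by
    show IsMono (mat 1)
    rw [map_one, ← Matrix.diagonal_one]
    exact isMono_diagonal _
  inv_mem' {x} hx := by
    have hp : ∀ n : ℕ, IsMono (mat (x ^ n)) := fun n => by
      induction n with
      | zero => rw [pow_zero, map_one, ← Matrix.diagonal_one]; exact isMono_diagonal _
      | succ n ih => rw [pow_succ, map_mul]; exact isMono_mul ih hx
    obtain ⟨n, hn⟩ := (isOfFinOrder_of_finite x).mem_powers_iff_mem_zpowers.2 (Subgroup.inv_mem _ (Subgroup.mem_zpowers x))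
    show IsMono (mat x⁻¹)
    rw [← hn]
    exact hp n

theorem mem_Mon {x : U F} : x ∈ Mon ↔ IsMono (mat x) := Iff.rfl

omit [Root F] [Fintype F] in
theorem exists_ne (x : U F) (j : Fin 6) : ∃ i, mat x i j ≠ 0 := by
  by_contra h
  simp only [not_exists, not_not] at h
  have := det_mat x
  rw [Matrix.det_eq_zero_of_column_eq_zero j h] at this
  exact zero_ne_one this

omit [Root F] [Fintype F] in
theorem exists_ne_row (x : U F) (i : Fin 6) : ∃ j, mat x i j ≠ 0 := by
  by_contra h
  simp only [not_exists, not_not] at h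
  have := det_mat x
  rw [Matrix.det_eq_zero_of_row_eq_zero i h] at this
  exact zero_ne_one this

/-- The place of the nonzero entry in a column. -/
noncomputable def place (x : U F) (j : Fin 6) : Fin 6 := (exists_ne x j).choose

theorem place_spec (x : U F) (j : Fin 6) : mat x (place x j) j ≠ 0 := (exists_ne x j).choose_spec

theorem place_eq {x : U F} (hx : x ∈ Mon) {i j : Fin 6} (h : mat x i j ≠ 0) : place x j = i :=
  hx _ _ _ (place_spec x j) h

theorem mon_apply_eq_zero {x : U F} (hx : x ∈ Mon) {i j : Fin 6} (h : i ≠ place x j) : mat x i j = 0 :=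
  by_contra fun hn => h (place_eq hx hn).symm

theorem place_mul {x y : U F} (hx : x ∈ Mon) (hy : y ∈ Mon) (j : Fin 6) :
    place (x * y) j = place x (place y j) := by
  refine place_eq (mul_mem hx hy) ?_
  rw [map_mul, Matrix.mul_apply, Finset.sum_eq_single (place y j)]
  · exact mul_ne_zero (place_spec _ _) (place_spec _ _)
  · intro k _ hk
    rw [mon_apply_eq_zero hy hk, mul_zero]
  · simp

theorem place_one (j : Fin 6) : place (1 : U F) j = j :=
  place_eq (one_mem _) (by simp)

/-- The permutation of a monomial element. -/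
noncomputable def permOf (x : ↥(Mon : Subgroup (U F))) : Equiv.Perm (Fin 6) where
  toFun := place x.1
  invFun := place x.1⁻¹
  left_inv j := by rw [← place_mul (inv_mem x.2) x.2, inv_mul_cancel, place_one]
  right_inv j := by rw [← place_mul x.2 (inv_mem x.2), mul_inv_cancel, place_one]

/-- The permutation map of the monomial subgroup. -/
noncomputable def πM : ↥(Mon : Subgroup (U F)) →* Equiv.Perm (Fin 6) where
  toFun := permOf
  map_one' := Equiv.ext fun j => place_one j
  map_mul' x y := Equiv.ext fun j => place_mul x.2 y.2 j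

theorem πM_apply (x : ↥(Mon : Subgroup (U F))) (j : Fin 6) : πM x j = place x.1 j := rfl

/-- The diagonal subgroup. -/
noncomputable def Dg : Subgroup (U F) := (πM : ↥(Mon : Subgroup (U F)) →* _).ker.map Mon.subtype

theorem mem_Dg {x : U F} : x ∈ Dg ↔ ∀ i j, i ≠ j → mat x i j = 0 := by
  constructor
  · rintro ⟨⟨x, hx⟩, hk, rfl⟩ i j hij
    refine mon_apply_eq_zero hx fun h => hij ?_
    rw [h, ← πM_apply ⟨x, hx⟩, MonoidHom.mem_ker.1 hk, Equiv.Perm.one_apply]
  · intro h
    have hM : x ∈ Mon := fun i i' j hi hi' => by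
      rw [show i = j from by_contra fun hn => hi (h _ _ hn), show i' = j from by_contra fun hn => hi' (h _ _ hn)]
    refine ⟨⟨x, hM⟩, MonoidHom.mem_ker.2 (Equiv.ext fun j => ?_), rfl⟩
    exact by_contra fun hn => place_spec x j (h _ _ hn)

theorem Dg_le_Mon : (Dg : Subgroup (U F)) ≤ Mon := Subgroup.map_subtype_le _

/-- The diagonal entry. -/
noncomputable def dcoef (x : U F) (i : Fin 6) : F := mat x i i

theorem mat_of_mem_Dg {x : U F} (hx : x ∈ Dg) : mat x = Matrix.diagonal (dcoef x) := by
  ext i j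
  by_cases h : i = j
  · subst h; rw [Matrix.diagonal_apply_eq]; rfl
  · rw [Matrix.diagonal_apply_ne _ h, mem_Dg.1 hx i j h]

/-- The twist by a diagonal unitary matrix of any determinant. -/
noncomputable def twistHom (D : Matrix (Fin 6) (Fin 6) F) (h : adj D * D = 1) (h' : D * adj D = 1) :
    U F →* U F where
  toFun x := mk (D * mat x * adj D) (by
      have hh : adj (adj D) = D := by
        calc adj (adj D) = adj (adj D) * (adj D * D) := by rw [h, mul_one]
          _ = D := by rw [← mul_assoc, ← adj_mul, h', show adj (1 : Matrix (Fin 6) (Fin 6) F) = 1 by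
            rw [← tm_id, ← tm_star]; exact congrArg _ (show starC idC = idC by decide +kernel), one_mul]
      rw [adj_mul, adj_mul, hh]
      calc D * (adj (mat x) * adj D) * (D * mat x * adj D)
          = D * adj (mat x) * (adj D * D) * mat x * adj D := by simp only [mul_assoc]
        _ = D * (adj (mat x) * mat x) * adj D := by rw [h, mul_one]; simp only [mul_assoc]
        _ = 1 := by rw [adj_mat_mul, mul_one, h']) (by
      rw [Matrix.det_mul, Matrix.det_mul, det_mat, mul_one, ← Matrix.det_mul, h', Matrix.det_one])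
  map_one' := mat_injective (by rw [mat_mk, map_one, mul_one, h'])
  map_mul' x y := mat_injective (by
    rw [mat_mk, map_mul, map_mul, mat_mk, mat_mk]
    calc D * (mat x * mat y) * adj D = D * mat x * 1 * mat y * adj D := by simp only [mul_one, mul_assoc]
      _ = D * mat x * adj D * (D * mat y * adj D) := by rw [← h]; simp only [mul_assoc])

theorem mat_twistHom (D : Matrix (Fin 6) (Fin 6) F) (h : adj D * D = 1) (h' : D * adj D = 1) (x : U F) :
    mat (twistHom D h h' x) = D * mat x * adj D := rfl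

theorem twist_check : allBelow 3 (fun k => Nat.beq (mulC (starC (diagC k)) (diagC k)) idC &&
    Nat.beq (mulC (diagC k) (starC (diagC k))) idC &&
    (Nat.beq k 0 || Nat.beq (starC (diagC k)) (diagC (Nat.sub 3 k)))) = true := by decide +kernel

theorem twist_facts (k : Fin 3) :
    adj (tm (diagC k)) * tm (diagC k) = (1 : Matrix (Fin 6) (Fin 6) F) ∧
      tm (diagC k) * adj (tm (diagC k)) = (1 : Matrix (Fin 6) (Fin 6) F) := by
  have h := allBelow_eq_true.mp twist_check k k.2
  simp only [Bool.and_eq_true, Nat.beq_eq] at h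
  rw [← tm_star, ← tm_mul, ← tm_mul, h.1.1, h.1.2, tm_id]
  exact ⟨rfl, rfl⟩

/-- The three twists. -/
noncomputable def dK (k : Fin 3) : U F →* U F :=
  twistHom (tm (diagC k)) (twist_facts k).1 (twist_facts k).2

theorem mat_dK (k : Fin 3) (x : U F) :
    mat (dK k x) = tm (diagC k) * mat x * adj (tm (diagC k)) := rfl

theorem dK_injective (k : Fin 3) : Function.Injective (dK k : U F →* U F) := fun x y h => by
  have h' := congrArg mat h
  rw [mat_dK, mat_dK] at h'
  have h2 := congrArg (fun M => adj (tm (diagC k)) * M * tm (diagC k)) h'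
  simp only [← mul_assoc, (twist_facts (F := F) k).1, one_mul] at h2
  simp only [mul_assoc, (twist_facts (F := F) k).1, mul_one] at h2
  exact mat_injective h2

theorem dK_bijective (k : Fin 3) : Function.Bijective (dK k : U F →* U F) :=
  ⟨dK_injective k, Finite.surjective_of_injective (dK_injective k)⟩

theorem dK_zero (x : U F) : dK 0 x = x := by
  refine mat_injective ?_
  rw [mat_dK, show diagC ((0 : Fin 3) : ℕ) = idC by decide +kernel, tm_id, one_mul,
    show adj (1 : Matrix (Fin 6) (Fin 6) F) = 1 by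
      rw [← tm_id, ← tm_star]; exact congrArg _ (show starC idC = idC by decide +kernel), mul_one]

theorem isMono_tm_diag (e : ℕ) : IsMono (tm (diagC e) : Matrix (Fin 6) (Fin 6) F) := by
  rw [tm, toMat_diagC]
  exact isMono_diagonal _

theorem dK_mem_Mon (k : Fin 3) {x : U F} (hx : x ∈ Mon) : dK k x ∈ Mon := by
  rw [mem_Mon, mat_dK, ← tm_star]
  refine isMono_mul (isMono_mul (isMono_tm_diag k) hx) ?_
  rw [tm_star, adj, tm, toMat_diagC, Matrix.diagonal_map (by simp), Matrix.diagonal_transpose]
  exact isMono_diagonal _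

end Cfsg.Agent.U62
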