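import Cfsg.Agent.U62.Cover
import Cfsg.Agent.U62.Diag

/-!
# Covers whose radical preimage is the diagonal subgroup

Such a cover meets the monomial subgroup in its even part and is generated by two conjugates of it.
-/

set_option autoImplicit false

namespace Cfsg.Agent.U62

open Matrix

variable {F : Type} [Field F] [CharP F 2] [Root F] [Fintype F]

theorem dg_separates : ∀ i i' : Fin 6, i ≠ i' → ∃ k : Fin 5, dig3 (diagExp k) i ≠ dig3 (diagExp k) i' := by
  decide +kernel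

theorem mem_Mon_of_normalizes {x : U F} (h : ∀ d ∈ (Dg : Subgroup (U F)), x⁻¹ * d * x ∈ Dg) : x ∈ Mon := by
  intro i i' j hi hi'
  by_contra hne
  obtain ⟨k, hk⟩ := dg_separates i i' hne
  have hd := dU_mem_Dg (F := F) k.2
  have he : mat (dU k) * mat x = mat x * mat (x⁻¹ * dU k * x) := by
    rw [← map_mul, ← map_mul]
    congr 1
    group
  rw [mat_of_mem_Dg hd, mat_of_mem_Dg (h _ hd)] at he
  have e1 := congrFun (congrFun he i) j
  have e2 := congrFun (congrFun he i') j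
  rw [Matrix.diagonal_mul, Matrix.mul_diagonal] at e1 e2
  have a1 := mul_right_cancel₀ hi (e1.trans (mul_comm _ _))
  have a2 := mul_right_cancel₀ hi' (e2.trans (mul_comm _ _))
  have h3 := a1.trans a2.symm
  rw [dcoef_dU k.2, dcoef_dU k.2, w_pow_eq_iff] at h3
  have := dig3_lt (diagExp k) i
  have := dig3_lt (diagExp k) i'
  omega

theorem mem_conj_map_iff {H : Type*} [Group H] (S : Subgroup H) (h x : H) :
    x ∈ S.map (MulAut.conj h).toMonoidHom ↔ h⁻¹ * x * h ∈ S := by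
  rw [Subgroup.map_equiv_eq_comap_symm', Subgroup.mem_comap]
  simp [MulAut.conj_symm_apply]

theorem conj_mem_map_subtype {H : Type*} [Group H] (M : Subgroup H) (N : Subgroup ↥M) (hN : N.Normal) {x d : H}
    (hx : x ∈ M) (hd : d ∈ N.map M.subtype) : x * d * x⁻¹ ∈ N.map M.subtype := by
  obtain ⟨e, he, rfl⟩ := hd
  exact ⟨⟨x, hx⟩ * e * ⟨x, hx⟩⁻¹, hN.conj_mem _ he _, rfl⟩

theorem conj_mem_Dg {x d : U F} (hx : x ∈ Mon) (hd : d ∈ Dg) : x * d * x⁻¹ ∈ Dg :=
  conj_mem_map_subtype Mon (πM (F := F)).ker (MonoidHom.normal_ker _) hx hd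

/-- The even monomial elements. -/
noncomputable def MonEven : Subgroup (U F) :=
  ((alternatingGroup (Fin 6)).comap (πM : ↥(Mon : Subgroup (U F)) →* _)).map Mon.subtype

theorem MonEven_le_Mon : (MonEven : Subgroup (U F)) ≤ Mon := Subgroup.map_subtype_le _

theorem Dg_le_MonEven : (Dg : Subgroup (U F)) ≤ MonEven := by
  rintro _ ⟨y, hy, rfl⟩
  refine ⟨y, ?_, rfl⟩
  show πM y ∈ alternatingGroup (Fin 6)
  rw [MonoidHom.mem_ker.1 hy]
  exact one_mem _

theorem MonEven_normal {n x : U F} (hn : n ∈ Mon) (hx : x ∈ MonEven) : n * x * n⁻¹ ∈ MonEven :=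
  conj_mem_map_subtype Mon _ (Subgroup.Normal.comap inferInstance (πM (F := F))) hn hx

theorem mat_commute_scalar {t : U F} (a : F) (ht : mat t = Matrix.scalar (Fin 6) a) (x : U F) : t * x = x * t :=
  mat_injective (by
    rw [map_mul, map_mul, ht]
    exact (Matrix.scalar_commute a (Commute.all _) (mat x)).eq)

namespace Cover

variable {K : Subgroup (U F)} (c : Cover K) (hD : c.pre Er = Dg)

omit [CharP F 2] [Root F] [Fintype F] in
theorem coe_mem_pre {H : Subgroup G} (x : ↥K) : (x : U F) ∈ c.pre H ↔ c.ψ x ∈ H :=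
  Subgroup.mem_map_iff_mem K.subtype_injective

include hD in
theorem pre_Stab0_eq : c.pre Stab0 = K ⊓ Mon := by
  ext x
  constructor
  · intro hx
    obtain ⟨h1, h2⟩ := c.mem_pre.1 hx
    refine ⟨h1, mem_Mon_of_normalizes fun d hd => ?_⟩
    rw [← hD] at hd ⊢
    obtain ⟨h3, h4⟩ := c.mem_pre.1 hd
    refine c.mem_pre.2 ⟨mul_mem (mul_mem (inv_mem h1) h3) h1, ?_⟩
    rw [show (⟨x⁻¹ * d * x, mul_mem (mul_mem (inv_mem h1) h3) h1⟩ : ↥K) = ⟨x, h1⟩⁻¹ * ⟨d, h3⟩ * ⟨x, h1⟩ from rfl,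
      map_mul, map_mul, map_inv]
    simpa using conj_mem_Er (inv_mem h2) h4
  · rintro ⟨h1, h2⟩
    refine c.mem_pre.2 ⟨h1, mem_Stab0_of_normalizes fun i => ?_⟩
    obtain ⟨t, ht⟩ := c.surj (eb i)
    have htD : (t : U F) ∈ (Dg : Subgroup (U F)) := hD ▸ c.mem_pre.2 ⟨t.2, by rw [Subtype.coe_eta, ht]; exact eb_mem i⟩
    have h3 := conj_mem_Dg (inv_mem h2) htD
    rw [inv_inv, ← hD] at h3
    obtain ⟨h4, h5⟩ := c.mem_pre.1 h3
    rwa [show (⟨x⁻¹ * t * x, h4⟩ : ↥K) = ⟨x, h1⟩⁻¹ * t * ⟨x, h1⟩ from rfl, map_mul, map_mul, map_inv, ht] at h5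

include hD in
theorem range_perm (hF : Fintype.card F = 4) :
    ((πM : ↥(Mon : Subgroup (U F)) →* _).comp
      (Subgroup.inclusion (show c.pre Stab0 ≤ Mon from (c.pre_Stab0_eq hD).trans_le inf_le_right))).range =
      alternatingGroup (Fin 6) := by
  set f := (πM : ↥(Mon : Subgroup (U F)) →* _).comp
      (Subgroup.inclusion (show c.pre Stab0 ≤ Mon from (c.pre_Stab0_eq hD).trans_le inf_le_right)) with hf
  have hle : (Dg : Subgroup (U F)) ≤ c.pre Stab0 := by
    rw [← hD]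
    intro x hx
    obtain ⟨h1, h2⟩ := c.mem_pre.1 hx
    exact c.mem_pre.2 ⟨h1, Er_le_Stab0 h2⟩
  have hker : f.ker = (Dg : Subgroup (U F)).subgroupOf (c.pre Stab0) := by
    ext ⟨x, hx⟩
    rw [MonoidHom.mem_ker, Subgroup.mem_subgroupOf]
    constructor
    · intro h
      exact ⟨_, MonoidHom.mem_ker.2 h, rfl⟩
    · rintro ⟨y, hy, he⟩
      have : y = Subgroup.inclusion (show c.pre Stab0 ≤ Mon from (c.pre_Stab0_eq hD).trans_le inf_le_right) ⟨x, hx⟩ :=
        Subtype.ext he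
      rw [this] at hy
      exact MonoidHom.mem_ker.1 hy
  have hk : Nat.card f.ker = 243 := by
    rw [hker, Nat.card_congr (Subgroup.subgroupOfEquivOfLe hle).toEquiv, card_Dg hF]
  have hn : Nat.card (c.pre Stab0) = 87480 := by rw [c.card_pre, card_Stab0]
  have hr : Nat.card f.range = 360 := by
    have h := f.ker.card_mul_index
    rw [hk, Subgroup.index_ker, hn] at h
    omega
  refine Equiv.Perm.eq_alternatingGroup_of_index_eq_two ?_
  have h := f.range.card_mul_index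
  rw [hr, Nat.card_eq_fintype_card (α := Equiv.Perm (Fin 6)), Fintype.card_perm, Fintype.card_fin] at h
  simp [Nat.factorial] at h
  omega

include hD in
theorem pre_Stab0_even (hF : Fintype.card F = 4) : c.pre Stab0 = MonEven := by
  have hr := c.range_perm hD hF
  ext x
  constructor
  · intro hx
    refine ⟨Subgroup.inclusion (show c.pre Stab0 ≤ Mon from (c.pre_Stab0_eq hD).trans_le inf_le_right) ⟨x, hx⟩, ?_, rfl⟩
    show πM _ ∈ alternatingGroup (Fin 6)
    rw [← hr]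
    exact ⟨⟨x, hx⟩, rfl⟩
  · rintro ⟨y, hy, rfl⟩
    have hy' : πM y ∈ alternatingGroup (Fin 6) := hy
    rw [← hr] at hy'
    obtain ⟨⟨z, hz⟩, he⟩ := hy'
    have hzM : z ∈ Mon := ((c.pre_Stab0_eq hD).le hz).2
    have h1 : (⟨z, hzM⟩⁻¹ * y : ↥(Mon : Subgroup (U F))) ∈ (πM : ↥(Mon : Subgroup (U F)) →* _).ker := by
      rw [MonoidHom.mem_ker, map_mul, map_inv]
      exact inv_mul_eq_one.2 he
    have h2 : z⁻¹ * y.1 ∈ (Dg : Subgroup (U F)) := ⟨_, h1, rfl⟩
    have h3 : z⁻¹ * y.1 ∈ c.pre Stab0 := by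
      rw [← hD] at h2
      obtain ⟨a, b⟩ := c.mem_pre.1 h2
      exact c.mem_pre.2 ⟨a, Er_le_Stab0 b⟩
    simpa using mul_mem hz h3

include hD in
theorem inf_Mon (hF : Fintype.card F = 4) : K ⊓ Mon = MonEven :=
  (c.pre_Stab0_eq hD).symm.trans (c.pre_Stab0_even hD hF)

/-- A preimage of the element moving the base point to a collinear point. -/
noncomputable def sig : ↥K := (c.surj hel).choose

theorem ψ_sig : c.ψ c.sig = hel := (c.surj hel).choose_spec

theorem le_closure : K ≤ Subgroup.closure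
    ((c.pre Stab0 : Set (U F)) ∪ {x | (c.sig : U F)⁻¹ * x * c.sig ∈ c.pre Stab0}) := by
  set S := (Subgroup.closure
    ((c.pre Stab0 : Set (U F)) ∪ {x | (c.sig : U F)⁻¹ * x * c.sig ∈ c.pre Stab0})).comap K.subtype
  have hker : c.ψ.ker ≤ S := fun x hx => Subgroup.subset_closure (Or.inl ((c.coe_mem_pre x).2 (by
    rw [MonoidHom.mem_ker.1 hx]
    exact one_mem _)))
  have htop : S.map c.ψ = ⊤ := by
    rw [eq_top_iff, ← closure_eq_top, Subgroup.closure_le]
    rintro g (hg | hg)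
    · obtain ⟨x, rfl⟩ := c.surj g
      exact ⟨x, Subgroup.subset_closure (Or.inl ((c.coe_mem_pre x).2 hg)), rfl⟩
    · obtain ⟨x, rfl⟩ := c.surj g
      have hg' : hel⁻¹ * c.ψ x * hel ∈ Stab0 := hg
      refine ⟨x, Subgroup.subset_closure (Or.inr ((c.coe_mem_pre (c.sig⁻¹ * x * c.sig)).2 ?_)), rfl⟩
      rw [map_mul, map_mul, map_inv, ψ_sig]
      exact hg'
  intro x hx
  have : (⟨x, hx⟩ : ↥K) ∈ (S.map c.ψ).comap c.ψ := by
    rw [htop]
    exact Subgroup.mem_top _
  rw [Subgroup.comap_map_eq_self hker] at this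
  exact this

include hD in
theorem exists_nonscalar (hF : Fintype.card F = 4) : ∃ t : U F,
    t ∈ (Dg : Subgroup (U F)) ∧ (c.sig : U F)⁻¹ * t * c.sig ∈ Dg ∧ ¬ ∀ i, dcoef t i = dcoef t 0 := by
  obtain ⟨t, ht⟩ := c.surj (eEl (interVec 1))
  have h1 : (t : U F) ∈ (Dg : Subgroup (U F)) := hD ▸ c.mem_pre.2 ⟨t.2, by rw [Subtype.coe_eta, ht]; exact eEl_mem _⟩
  refine ⟨t, h1, ?_, fun hs => ?_⟩
  · have h := (c.coe_mem_pre (H := Er) (c.sig⁻¹ * t * c.sig)).2 (by
      rw [map_mul, map_mul, map_inv, ψ_sig, ht]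
      exact interVec_conj 1)
    rw [hD] at h
    simpa using h
  · have hm : mat (t : U F) = Matrix.scalar (Fin 6) (dcoef (t : U F) 0) := by
      rw [mat_of_mem_Dg h1, Matrix.scalar_apply]
      exact congrArg _ (funext hs)
    have hz : t ∈ Subgroup.center ↥K := Subgroup.mem_center_iff.2 fun y =>
      Subtype.ext (mat_commute_scalar _ hm (y : U F)).symm
    rw [c.center_eq, MonoidHom.mem_ker, ht, ← eEl_zero] at hz
    exact interVec_spec.2 (Multiplicative.ofAdd.injective (eHom_injective hz))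

include hD in
theorem inter_card : Nat.card ↥((Dg : Subgroup (U F)) ⊓
    (Dg : Subgroup (U F)).map (MulAut.conj (c.sig : U F)).toMonoidHom) ≤ 9 := by
  set H := Er ⊓ Er.map (MulAut.conj hel).toMonoidHom
  have hle : (Dg : Subgroup (U F)) ⊓ (Dg : Subgroup (U F)).map (MulAut.conj (c.sig : U F)).toMonoidHom ≤ c.pre H := by
    intro x hx
    rw [Subgroup.mem_inf, mem_conj_map_iff, ← hD] at hx
    obtain ⟨h1, h2⟩ := c.mem_pre.1 hx.1
    have h3 : c.ψ (c.sig⁻¹ * ⟨x, h1⟩ * c.sig) ∈ Er := (c.coe_mem_pre _).1 (by simpa using hx.2)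
    rw [map_mul, map_mul, map_inv, ψ_sig] at h3
    exact c.mem_pre.2 ⟨h1, Subgroup.mem_inf.2 ⟨h2, (mem_conj_map_iff _ _ _).2 h3⟩⟩
  have hH : Nat.card H ≤ 3 := by
    have e : ∀ z : ↥H, ∃ i, (z : G) = eEl (interVec i) := fun z =>
      inter_cases (Subgroup.mem_inf.1 z.2).1 ((mem_conj_map_iff _ _ _).1 (Subgroup.mem_inf.1 z.2).2)
    choose g hg using e
    have hginj : Function.Injective g := fun x y h => Subtype.ext (by rw [hg x, hg y, h])
    simpa using Nat.card_le_card_of_injective g hginj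
  calc _ ≤ Nat.card (c.pre H) := Subgroup.card_le_of_le hle
    _ ≤ 9 := by rw [c.card_pre]; omega

include hD in
theorem moving_card : 81 ≤ Nat.card ↥((Dg : Subgroup (U F)) ⊓
    (Mon : Subgroup (U F)).map (MulAut.conj (c.sig : U F)).toMonoidHom) := by
  set H := Er ⊓ Stab0.map (MulAut.conj hel).toMonoidHom
  have hH : 27 ≤ Nat.card H := by
    have hm : ∀ i, hel⁻¹ * eEl (stabVec i) * hel ∈ Stab0 := fun i => by
      show ιG (hel⁻¹ * eEl (stabVec i) * hel) p0 = p0
      rw [map_mul, map_mul, Equiv.Perm.mul_apply, Equiv.Perm.mul_apply, hel_base, stabVec_fix, map_inv,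
        Equiv.Perm.inv_eq_iff_eq, hel_base]
    let g : Fin 27 → ↥H := fun i =>
      ⟨eEl (stabVec i), Subgroup.mem_inf.2 ⟨eEl_mem _, (mem_conj_map_iff _ _ _).2 (hm i)⟩⟩
    have hg : Function.Injective g := fun i j h => stabVec_injective
      (Multiplicative.ofAdd.injective (eHom_injective (congrArg Subtype.val h)))
    simpa using Nat.card_le_card_of_injective g hg
  have hle : c.pre H ≤ (Dg : Subgroup (U F)) ⊓ (Mon : Subgroup (U F)).map (MulAut.conj (c.sig : U F)).toMonoidHom := by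
    intro x hx
    obtain ⟨h1, h2⟩ := c.mem_pre.1 hx
    obtain ⟨h3, h4⟩ := Subgroup.mem_inf.1 h2
    rw [mem_conj_map_iff] at h4
    rw [Subgroup.mem_inf, mem_conj_map_iff, ← hD]
    refine ⟨c.mem_pre.2 ⟨h1, h3⟩, ?_⟩
    have h5 := (c.coe_mem_pre (H := Stab0) (c.sig⁻¹ * ⟨x, h1⟩ * c.sig)).2 (by
      rw [map_mul, map_mul, map_inv, ψ_sig]
      exact h4)
    rw [c.pre_Stab0_eq hD] at h5
    simpa using h5.2
  calc 81 ≤ Nat.card (c.pre H) := by rw [c.card_pre]; omega
    _ ≤ _ := Subgroup.card_le_of_le hle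

end Cover

end Cfsg.Agent.U62
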